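import Mathlib
import Cfsg.Agent.Lib.KR.Basic
import Cfsg.Agent.Lib.KR.PermBound

/-!
Lower bounds for the number of conjugacy classes from an abelian normal section and an abelian
subgroup of the top.
-/

set_option autoImplicit false
set_option linter.style.haveILetI false

namespace CfsgLib.ClassLower

open CfsgLib.KR (kc)

variable {G : Type*} [Group G] [Finite G]

/-- The class of an element has at most as many members as cosets of any subgroup centralizing it. -/
theorem card_class_le (v : G) (C : Subgroup G) (h : C ≤ Subgroup.centralizer ({v} : Set G)) :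
    Nat.card {w : G // IsConj v w} ≤ C.index := by
  have hc : ∀ c ∈ C, c * v = v * c := fun c hc =>
    Subgroup.mem_centralizer_singleton_iff.mp (h hc)
  rw [Subgroup.index_eq_card]
  let f : G ⧸ C → {w : G // IsConj v w} := Quotient.lift
    (fun g : G => (⟨g * v * g⁻¹, isConj_iff.mpr ⟨g, rfl⟩⟩ : {w : G // IsConj v w})) (by
      intro a b hab
      refine Subtype.ext ?_
      have hm : a⁻¹ * b ∈ C := QuotientGroup.leftRel_apply.mp hab
      show a * v * a⁻¹ = b * v * b⁻¹
      calc a * v * a⁻¹ = a * (v * (a⁻¹ * b)) * (a⁻¹ * b)⁻¹ * a⁻¹ := by group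
        _ = a * ((a⁻¹ * b) * v) * (a⁻¹ * b)⁻¹ * a⁻¹ := by rw [hc _ hm]
        _ = b * v * b⁻¹ := by group)
  refine Nat.card_le_card_of_surjective f ?_
  rintro ⟨w, hw⟩
  obtain ⟨g, hg⟩ := isConj_iff.mp hw
  exact ⟨QuotientGroup.mk g, Subtype.ext hg⟩

/-- A set of elements centralized by `C` meets at least `#S / index` classes. -/
theorem card_set_le (C : Subgroup G) (S : Set G)
    (h : ∀ v ∈ S, C ≤ Subgroup.centralizer ({v} : Set G)) :
    Nat.card S ≤ Nat.card (Set.range fun v : S => ConjClasses.mk (v : G)) * C.index := by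
  classical
  haveI := Fintype.ofFinite G
  set R := Set.range fun v : S => ConjClasses.mk (v : G) with hR
  haveI : Fintype R := Fintype.ofFinite _
  let f : S → R := fun v => ⟨ConjClasses.mk (v : G), ⟨v, rfl⟩⟩
  rw [← Nat.card_congr (Equiv.sigmaFiberEquiv f), Nat.card_sigma]
  refine (Finset.sum_le_card_nsmul Finset.univ _ C.index fun r _ => ?_).trans (le_of_eq ?_)
  · obtain ⟨v, hv⟩ := r.2
    refine le_trans ?_ (card_class_le (v : G) C (h _ v.2))
    refine Nat.card_le_card_of_injective
      (fun w => ⟨((w : {x // f x = r}) : S).1, ConjClasses.mk_eq_mk_iff_isConj.mp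
        (hv.trans (congrArg Subtype.val w.2).symm)⟩) fun w w' e => ?_
    have e' := congrArg Subtype.val e
    exact Subtype.ext (Subtype.ext e')
  · rw [Finset.card_univ, smul_eq_mul, Nat.card_eq_fintype_card]

/-- An abelian subgroup commuting with `C`. -/
theorem card_le_kc_mul (T C : Subgroup G) (h : ∀ t ∈ T, ∀ c ∈ C, t * c = c * t) :
    Nat.card T ≤ kc G * C.index := by
  refine (card_set_le C (T : Set G) fun v hv c hc => ?_).trans (Nat.mul_le_mul_right _ ?_)
  · exact Subgroup.mem_centralizer_singleton_iff.mpr (h v hv c hc).symm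
  · haveI : Finite (ConjClasses G) := Finite.of_surjective _ ConjClasses.mk_surjective
    exact Finite.card_subtype_le _

/-- Classes of a quotient plus the classes inside an abelian section below the kernel. -/
theorem kc_quot_add {H : Type*} [Group H] (φ : G →* H) (hφ : Function.Surjective φ) (V : Subgroup G)
    (hV : V ≤ φ.ker) (hc : φ.ker ≤ Subgroup.centralizer (V : Set G)) :
    kc H * Nat.card H + (Nat.card V - 1) ≤ kc G * Nat.card H := by
  classical
  haveI : Finite (ConjClasses G) := Finite.of_surjective _ ConjClasses.mk_surjective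
  haveI : Finite H := Finite.of_surjective φ hφ
  haveI : Finite (ConjClasses H) := Finite.of_surjective _ ConjClasses.mk_surjective
  set S : Set G := (V : Set G) \ {1} with hS
  have hindex : φ.ker.index = Nat.card H := by
    rw [Subgroup.index_eq_card]
    exact Nat.card_congr (QuotientGroup.quotientKerEquivOfSurjective φ hφ).toEquiv
  have h1 : Nat.card V - 1 ≤
      Nat.card (Set.range fun v : S => ConjClasses.mk (v : G)) * Nat.card H := by
    have hcs : Nat.card S = Nat.card V - 1 := by
      rw [hS, Nat.card_coe_set_eq, Set.ncard_sdiff_singleton_of_mem (one_mem V),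
        ← Nat.card_coe_set_eq]
      rfl
    rw [← hcs, ← hindex]
    refine card_set_le φ.ker S fun v hv c hc' => ?_
    exact Subgroup.mem_centralizer_singleton_iff.mpr
      (Subgroup.mem_centralizer_iff.mp (hc hc') v hv.1).symm
  have hsec := Function.surjInv_eq (ConjClasses.map_surjective hφ)
  let s : ConjClasses H → ConjClasses G := fun c =>
    if c = ConjClasses.mk 1 then ConjClasses.mk 1
    else Function.surjInv (ConjClasses.map_surjective hφ) c
  have hs : ∀ c, ConjClasses.map φ (s c) = c := fun c => by
    simp only [s]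
    split_ifs with h
    · rw [h]; exact congrArg ConjClasses.mk (map_one φ)
    · exact hsec c
  let ι : (Set.range fun v : S => ConjClasses.mk (v : G)) ⊕ ConjClasses H → ConjClasses G :=
    Sum.elim Subtype.val s
  have hι : Function.Injective ι := by
    refine Function.Injective.sumElim Subtype.val_injective
      (Function.LeftInverse.injective hs) ?_
    rintro ⟨_, v, rfl⟩ c (e : ConjClasses.mk (v : G) = s c)
    have hc1 : c = ConjClasses.mk 1 := by
      rw [← hs c, ← e]
      exact congrArg ConjClasses.mk (MonoidHom.mem_ker.mp (hV v.2.1))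
    simp only [s, if_pos hc1] at e
    exact v.2.2 (isConj_one_left.mp (ConjClasses.mk_eq_mk_iff_isConj.mp e))
  have h2 := Nat.card_le_card_of_injective ι hι
  rw [Nat.card_sum] at h2
  calc kc H * Nat.card H + (Nat.card V - 1)
      ≤ kc H * Nat.card H + Nat.card (Set.range fun v : S => ConjClasses.mk (v : G)) * Nat.card H :=
        Nat.add_le_add_left h1 _
    _ ≤ kc G * Nat.card H := by rw [← Nat.add_mul]; exact Nat.mul_le_mul_right _ (by rw [add_comm]; exact h2)

/-- The product bound. -/
theorem four_mul_le {H : Type*} [Group H] (φ : G →* H) (hφ : Function.Surjective φ) (V : Subgroup G)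
    (hV : V ≤ φ.ker) (hc : φ.ker ≤ Subgroup.centralizer (V : Set G)) (T C : Subgroup H)
    (h : ∀ t ∈ T, ∀ c ∈ C, t * c = c * t) :
    4 * (Nat.card V - 1) ≤ kc G ^ 2 * (C.index * T.index) := by
  haveI : Finite H := Finite.of_surjective φ hφ
  have h1 := kc_quot_add φ hφ V hV hc
  have h2 := card_le_kc_mul T C h
  have h3 : Nat.card T * T.index = Nat.card H := Subgroup.card_mul_index T
  have ht : 0 < Nat.card T := Nat.card_pos
  have hn : 0 < Nat.card H := Nat.card_pos
  generalize Nat.card V - 1 = w at *
  generalize kc G = k at *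
  generalize kc H = k' at *
  generalize C.index = c at *
  generalize T.index = τ at *
  generalize Nat.card T = t at *
  rw [← h3] at h1 hn
  have hab : t * t * τ + w * c ≤ k * (t * τ) * c := by
    calc t * t * τ + w * c ≤ k' * c * (t * τ) + w * c := by
          refine Nat.add_le_add_right ?_ _
          calc t * t * τ = t * (t * τ) := by ring
            _ ≤ k' * c * (t * τ) := Nat.mul_le_mul_right _ h2
      _ = (k' * (t * τ) + w) * c := by ring
      _ ≤ k * (t * τ) * c := Nat.mul_le_mul_right _ h1
  have hsq : 4 * ((t * t * τ) * (w * c)) ≤ (k * (t * τ) * c) ^ 2 :=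
    le_trans (by rw [← mul_assoc]; exact four_mul_le_sq_add _ _) (Nat.pow_le_pow_left hab 2)
  have hτ : 0 < τ := Nat.pos_of_mul_pos_left hn
  rcases Nat.eq_zero_or_pos c with hc0 | hc0
  · subst hc0
    simp at h2
    omega
  have : (4 * w) * (t * t * τ * c) ≤ (k ^ 2 * (c * τ)) * (t * t * τ * c) := by
    calc (4 * w) * (t * t * τ * c) = 4 * ((t * t * τ) * (w * c)) := by ring
      _ ≤ (k * (t * τ) * c) ^ 2 := hsq
      _ = _ := by ring
  exact Nat.le_of_mul_le_mul_right this (by positivity)

/-- Few classes in a solvable group force a small group. -/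
theorem card_le_of_kc {A : Type*} [Group A] [Finite A] (hs : Group.IsSolvable A) :
    (kc A ≤ 1 → Nat.card A ≤ 1) ∧ (kc A ≤ 2 → Nat.card A ≤ 2) ∧ (kc A ≤ 3 → Nat.card A ≤ 6) ∧
      (kc A ≤ 4 → Nat.card A ≤ 42) := by
  suffices H : ∀ (n : ℕ) (A : Type _) [Group A] [Finite A], Group.IsSolvable A → Nat.card A = n →
      (kc A ≤ 1 → n ≤ 1) ∧ (kc A ≤ 2 → n ≤ 2) ∧ (kc A ≤ 3 → n ≤ 6) ∧ (kc A ≤ 4 → n ≤ 42) from
    H _ A hs rfl
  intro n
  induction n using Nat.strong_induction_on with
  | _ n ih =>
  intro A _ _ hs hn
  by_cases h1 : n ≤ 1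
  · exact ⟨fun _ => h1, fun _ => by omega, fun _ => by omega, fun _ => by omega⟩
  haveI : Nontrivial A := Finite.one_lt_card_iff_nontrivial.mp (by omega)
  obtain ⟨W, hWn, hW, -, hWab⟩ := CfsgLib.KR.exists_minimal_abelian_normal A hs
  haveI := hWn
  haveI := hs
  let π := QuotientGroup.mk' W
  set C := Subgroup.centralizer (W : Set A) with hC
  have hWC : W ≤ C := fun a ha => Subgroup.mem_centralizer_iff.mpr fun b hb => hWab b hb a ha
  have hW2 : 2 ≤ Nat.card W := by
    have := Finite.one_lt_card_iff_nontrivial.mpr ((Subgroup.nontrivial_iff_ne_bot W).mpr hW)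
    omega
  have hb := kc_quot_add π (QuotientGroup.mk'_surjective W) W (by rw [QuotientGroup.ker_mk'])
    (by rw [QuotientGroup.ker_mk']; exact hWC)
  have hq : Nat.card (A ⧸ W) * Nat.card W = n := by
    rw [← hn, ← Subgroup.index_eq_card]; exact Subgroup.index_mul_card W
  have hlt : Nat.card (A ⧸ W) < n := by
    have : 0 < Nat.card (A ⧸ W) := Nat.card_pos
    nlinarith
  obtain ⟨i1, i2, i3, -⟩ := ih _ hlt (A ⧸ W) inferInstance rfl
  have hk : 0 < kc (A ⧸ W) := CfsgLib.KR.kc_pos _
  generalize Nat.card W = w at *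
  generalize Nat.card (A ⧸ W) = q at *
  generalize kc (A ⧸ W) = k' at *
  generalize kc A = k at *
  have hq0 : 0 < q := by
    rcases Nat.eq_zero_or_pos q with h | h
    · subst h; omega
    · exact h
  have hkk : k' < k := by
    by_contra h
    have := Nat.mul_le_mul_right q (le_of_not_gt h)
    omega
  subst hq
  refine ⟨fun h => by omega, fun h => ?_, fun h => ?_, fun h => ?_⟩
  · have hk1 : k' = 1 := by omega
    have := i1 (by omega)
    obtain rfl : q = 1 := by omega
    subst hk1
    omega
  · rcases (by omega : k' = 1 ∨ k' = 2) with rfl | rfl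
    · have := i1 le_rfl
      obtain rfl : q = 1 := by omega
      omega
    · have := i2 le_rfl
      rcases (by omega : q = 1 ∨ q = 2) with rfl | rfl <;> omega
  · rcases (by omega : k' = 1 ∨ k' = 2 ∨ k' = 3) with rfl | rfl | rfl
    · have := i1 le_rfl
      obtain rfl : q = 1 := by omega
      omega
    · have := i2 le_rfl
      rcases (by omega : q = 1 ∨ q = 2) with rfl | rfl <;> omega
    · have := i3 le_rfl
      interval_cases q <;> omega

end CfsgLib.ClassLower
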