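import Cfsg.Agent.Lib.ClassLower.StructMain

/-!
The commuting pair for solvable groups over finite fields, and the sharper pair when the group is
irreducible with a normal subgroup of prime order.
-/

set_option autoImplicit false
set_option linter.style.haveILetI false

namespace CfsgLib.ClassLower

open scoped commutatorElement
open Polynomial

universe u

/-- Extension of scalars to an algebraically closed field. -/
theorem good_finite_field {q : ℕ} [Fact q.Prime] {E : Type*} [Field E] [Algebra (ZMod q) E] [Finite E]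
    {U : Type u} [AddCommGroup U] [Module E U] [Finite U] [Nontrivial U]
    {H : Type u} [Group H] [Finite H] (hH : Group.IsSolvable H) (ψ : H →* Module.End E U) :
    ∃ (T C N : Subgroup H), T ≤ C ∧ N.Normal ∧ (∀ x ∈ N, IsNilpotent (ψ x - 1)) ∧
      (∀ t ∈ T, ∀ c ∈ C, ⁅t, c⁆ ∈ N) ∧
      (C.index * T.index) ^ 3 ≤ 2 ^ (20 * (Module.finrank E U - 1)) := by
  classical
  haveI : Module.Finite E U := Module.Finite.of_finite
  haveI : Module.Finite (ZMod q) E := Module.Finite.of_finite
  let K := AlgebraicClosure (ZMod q)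
  haveI : CharP K q := charP_of_injective_algebraMap' (ZMod q) q
  let ι : E →+* K := (IsAlgClosed.lift (R := ZMod q) (S := E) (M := K)).toRingHom
  set R := Module.finrank E U with hR
  let b := Module.finBasis E U
  let Φ : Module.End E U →+* Module.End K (Fin R → K) :=
    (Matrix.toLinAlgEquiv' (R := K) (n := Fin R)).toRingEquiv.toRingHom.comp
      (ι.mapMatrix.comp (LinearMap.toMatrixAlgEquiv b).toRingEquiv.toRingHom)
  have hΦ : Function.Injective Φ :=
    (Matrix.toLinAlgEquiv' (R := K) (n := Fin R)).injective.comp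
      ((Matrix.map_injective ι.injective).comp (LinearMap.toMatrixAlgEquiv b).injective)
  obtain ⟨T, C, N, hTC, hN, hu, hc, hb⟩ := good_all (K := K) q R H hH (Fin R → K)
    (Module.finrank_fin_fun K) Module.finrank_pos ((Φ : Module.End E U →* _).comp ψ)
  refine ⟨T, C, N, hTC, hN, fun x hx => ?_, hc, by rwa [Module.finrank_fin_fun] at hb⟩
  refine (IsNilpotent.map_iff hΦ).mp ?_
  rw [map_sub, map_one]
  exact hu x hx

variable {H V : Type u} [Group H] [AddCommGroup V]

theorem rho_cancel' {R : Type*} [CommRing R] [Module R V] (ρ : H →* Module.End R V) (g : H) (v : V) :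
    ρ g⁻¹ (ρ g v) = v := by
  rw [← Module.End.mul_apply, ← map_mul, inv_mul_cancel, map_one, Module.End.one_apply]

/-- The restriction to an invariant submodule. -/
def subRep' {R : Type*} [CommRing R] [Module R V] (ρ : H →* Module.End R V) (W : Submodule R V)
    (hW : ∀ h, ∀ v ∈ W, ρ h v ∈ W) : H →* Module.End R W where
  toFun h := (ρ h).restrict (hW h)
  map_one' := by ext v; simp
  map_mul' g h := by ext v; simp

/-- A faithful irreducible group over a prime field has no normal subgroup of that prime power order. -/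
theorem pgroup_eq_bot_finite {q : ℕ} [Fact q.Prime] [Module (ZMod q) V] [Finite V] [Nontrivial V]
    (ρ : H →* Module.End (ZMod q) V) (hρ : Function.Injective ρ)
    (hirr : ∀ W : Submodule (ZMod q) V, (∀ h, ∀ v ∈ W, ρ h v ∈ W) → W = ⊥ ∨ W = ⊤)
    (N : Subgroup H) [hNn : N.Normal] (hN : IsPGroup q N) : N = ⊥ := by
  classical
  letI : MulAction N V :=
    { smul := fun n v => ρ n v
      one_smul := fun v => by show ρ ((1 : N) : H) v = v; rw [OneMemClass.coe_one, map_one]; rfl
      mul_smul := fun a b v => by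
        show ρ ((a * b : N) : H) v = ρ a (ρ b v)
        rw [Subgroup.coe_mul, map_mul, Module.End.mul_apply] }
  let W : Submodule (ZMod q) V := ⨅ n : N, Module.End.eigenspace (ρ n) 1
  have hmem : ∀ w, w ∈ W ↔ ∀ n : N, ρ n w = w := fun w => by simp [W, Submodule.mem_iInf]
  have hWinv : ∀ h, ∀ w ∈ W, ρ h w ∈ W := fun h w hw => (hmem _).mpr fun a => by
    have h1 := (hmem w).mp hw ⟨h⁻¹ * a * h, by simpa using hNn.conj_mem a a.2 h⁻¹⟩
    rw [← Module.End.mul_apply, ← map_mul]
    conv_rhs => rw [← h1]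
    rw [← Module.End.mul_apply, ← map_mul]
    exact congrArg (fun x : H => ρ x w) (by group)
  have hdvd : q ∣ Nat.card V := by
    haveI : Module.Finite (ZMod q) V := Module.Finite.of_finite
    rw [Module.natCard_eq_pow_finrank (K := ZMod q), Nat.card_zmod]
    exact dvd_pow_self _ Module.finrank_pos.ne'
  obtain ⟨w, hw, hw0⟩ := hN.exists_fixed_point_of_prime_dvd_card_of_fixed_point V hdvd
    (a := (0 : V)) (fun n => map_zero (ρ n))
  rcases hirr W hWinv with e | e
  · refine absurd ?_ hw0.symm
    have : w ∈ W := (hmem w).mpr fun n => hw n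
    rwa [e, Submodule.mem_bot] at this
  · refine eq_bot_iff.mpr fun a ha => Subgroup.mem_bot.mpr (hρ (LinearMap.ext fun v => ?_))
    rw [map_one, Module.End.one_apply]
    exact (hmem v).mp (e ▸ Submodule.mem_top) ⟨a, ha⟩

/-- Powers and polynomials of a restricted endomorphism. -/
theorem aeval_restrict {R : Type*} [CommRing R] [Module R V] (f : Module.End R V) (U : Submodule R V)
    (hU : ∀ v ∈ U, f v ∈ U) (P : R[X]) : ∀ v : U, aeval f P (v : V) = (aeval (f.restrict hU) P v : V) := by
  induction P using Polynomial.induction_on with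
  | C a => intro v; simp [Module.algebraMap_end_apply]
  | add P Q hP hQ => intro v; simp [hP, hQ]
  | monomial n a ih =>
    intro v
    rw [pow_succ, ← mul_assoc, map_mul (aeval f), map_mul (aeval (f.restrict hU)), aeval_X, aeval_X,
      Module.End.mul_apply,
      Module.End.mul_apply]
    exact ih (f.restrict hU v)

theorem aeval_conj {q : ℕ} [Module (ZMod q) V] (ρ : H →* Module.End (ZMod q) V) (h z : H)
    (P : (ZMod q)[X]) : aeval (ρ (h * z * h⁻¹)) P = ρ h * aeval (ρ z) P * ρ h⁻¹ := by
  have hh : ρ h * ρ h⁻¹ = 1 := by rw [← map_mul, mul_inv_cancel, map_one]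
  have hh' : ρ h⁻¹ * ρ h = 1 := by rw [← map_mul, inv_mul_cancel, map_one]
  induction P using Polynomial.induction_on with
  | C a =>
    rw [aeval_C, aeval_C, ← Algebra.commutes, mul_assoc, hh, mul_one]
  | add P Q hP hQ => rw [map_add, map_add, hP, hQ, mul_add, add_mul]
  | monomial n a ih =>
    rw [pow_succ, ← mul_assoc, map_mul (aeval (ρ (h * z * h⁻¹))), map_mul (aeval (ρ z)), aeval_X,
      aeval_X, ih, map_mul ρ, map_mul ρ]
    simp only [mul_assoc]
    rw [← mul_assoc (ρ h⁻¹), hh', one_mul]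

/-- The main module lemma. -/
theorem prime_module [Finite H] (hH : Group.IsSolvable H) {q : ℕ} [Fact q.Prime]
    [Module (ZMod q) V] [Finite V] [Nontrivial V]
    (ρ : H →* Module.End (ZMod q) V) (hρ : Function.Injective ρ)
    (hirr : ∀ W : Submodule (ZMod q) V, (∀ h, ∀ v ∈ W, ρ h v ∈ W) → W = ⊥ ∨ W = ⊤)
    {p : ℕ} [Fact p.Prime] (z : H) (hz : orderOf z = p) (hzn : (Subgroup.zpowers z).Normal) :
    ∃ (T C : Subgroup H) (D : ℕ), (∀ t ∈ T, ∀ c ∈ C, t * c = c * t) ∧
      (C.index * T.index) ^ 3 ≤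
        ((Subgroup.centralizer ({z} : Set H)).index ^ 2) ^ 3 * 2 ^ (20 * D) ∧
      p ^ D ≤ Nat.card V ∧ 2 ^ (Subgroup.centralizer ({z} : Set H)).index ≤ Nat.card V ∧
      (D = 0 ∨ 2 ^ (2 * (Subgroup.centralizer ({z} : Set H)).index) ≤ Nat.card V) := by
  classical
  haveI := hH
  haveI : Module.Finite (ZMod q) V := Module.Finite.of_finite
  set H1 := Subgroup.centralizer ({z} : Set H) with hH1
  set n := Module.finrank (ZMod q) V with hn
  have hcardV : Nat.card V = q ^ n := by
    rw [Module.natCard_eq_pow_finrank (K := ZMod q), Nat.card_zmod]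
  have hq2 : 2 ≤ q := (Fact.out : q.Prime).two_le
  have hz1 : z ≠ 1 := fun e => (Fact.out : p.Prime).ne_one (by rw [← hz, e, orderOf_one])
  have hcom : ∀ c ∈ H1, c * z = z * c := fun c hc => Subgroup.mem_centralizer_singleton_iff.mp hc
  have hexp : ∀ h : H, ∃ i : ℕ, h * z * h⁻¹ = z ^ i := fun h => by
    have h1 := hzn.conj_mem z (Subgroup.mem_zpowers z) h
    obtain ⟨i, hi⟩ := mem_powers_iff_mem_zpowers.mpr h1
    exact ⟨i, hi.symm⟩
  haveI hH1n : H1.Normal := ⟨fun c hc g => by
    obtain ⟨i, hi⟩ := hexp g⁻¹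
    refine Subgroup.mem_centralizer_singleton_iff.mpr ?_
    have h1 : Commute c (g⁻¹ * z * g) := by
      rw [show g⁻¹ * z * g = g⁻¹ * z * g⁻¹⁻¹ by group, hi]
      exact Commute.pow_right (hcom c hc) i
    calc g * c * g⁻¹ * z = g * (c * (g⁻¹ * z * g)) * g⁻¹ := by group
      _ = g * ((g⁻¹ * z * g) * c) * g⁻¹ := by rw [h1.eq]
      _ = z * (g * c * g⁻¹) := by group⟩
  -- no fixed vector
  have hfix : ∀ v : V, ρ z v = v → v = 0 := by
    let W : Submodule (ZMod q) V := Module.End.eigenspace (ρ z) 1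
    have hmem : ∀ v, v ∈ W ↔ ρ z v = v := fun v => by simp [W]
    have hWinv : ∀ h, ∀ v ∈ W, ρ h v ∈ W := fun h v hv => (hmem _).mpr (by
      obtain ⟨i, hi⟩ := hexp h⁻¹
      rw [← Module.End.mul_apply, ← map_mul,
        show z * h = h * (h⁻¹ * z * h⁻¹⁻¹) by group, hi, map_mul, Module.End.mul_apply]
      congr 1
      induction i with
      | zero => rw [pow_zero, map_one, Module.End.one_apply]
      | succ i ih =>
        rw [pow_succ, map_mul, Module.End.mul_apply, (hmem v).mp hv]
        clear hi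
        exact Nat.recOn i (by rw [pow_zero, map_one, Module.End.one_apply]) fun j hj => by
          rw [pow_succ, map_mul, Module.End.mul_apply, (hmem v).mp hv, hj])
    intro v hv
    rcases hirr W hWinv with e | e
    · have : v ∈ W := (hmem v).mpr hv
      rwa [e, Submodule.mem_bot] at this
    · refine absurd (hρ (LinearMap.ext fun w => ?_)) hz1
      rw [map_one, Module.End.one_apply]
      exact (hmem w).mp (e ▸ Submodule.mem_top)
  -- the minimal polynomial bounds the index
  set f := minpoly (ZMod q) (ρ z) with hf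
  have hint : IsIntegral (ZMod q) (ρ z) := Algebra.IsIntegral.isIntegral _
  have hidx : H1.index ≤ f.natDegree := by
    let K := AlgebraicClosure (ZMod q)
    obtain ⟨ζ, hζ⟩ := IsAlgClosed.exists_aeval_eq_zero K f (minpoly.degree_pos hint).ne'
    have hzp : z ^ p = 1 := hz ▸ pow_orderOf_eq_one z
    have hζp : ζ ^ p = 1 := by
      have hd : f ∣ X ^ p - 1 := minpoly.dvd _ _ (by
        rw [map_sub, map_pow, aeval_X, map_one, ← map_pow, hzp, map_one, sub_self])
      have := aeval_eq_zero_of_dvd_aeval_eq_zero hd hζ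
      rw [map_sub, map_pow, aeval_X, map_one, sub_eq_zero] at this
      exact this
    have hζ1 : ζ ≠ 1 := fun e => by
      rw [e, ← map_one (algebraMap (ZMod q) K), aeval_algebraMap_apply, map_eq_zero,
        coe_aeval_eq_eval] at hζ
      obtain ⟨v, hv⟩ := (Module.End.hasEigenvalue_of_isRoot hζ).exists_hasEigenvector
      exact hv.2 (hfix v (by simpa using hv.apply_eq_smul))
    have hord : orderOf ζ = p := orderOf_eq_prime hζp hζ1
    choose i hi using hexp
    have hroot : ∀ h : H, ζ ^ i h ∈ (f.aroots K).toFinset := fun h => by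
      rw [Multiset.mem_toFinset, mem_aroots]
      refine ⟨minpoly.ne_zero hint, ?_⟩
      have hd : f ∣ f.comp (X ^ i h) := minpoly.dvd _ _ (by
        rw [aeval_comp, map_pow, aeval_X, ← map_pow, ← hi h, aeval_conj, minpoly.aeval, mul_zero,
          zero_mul])
      have := aeval_eq_zero_of_dvd_aeval_eq_zero hd hζ
      rwa [aeval_comp, map_pow, aeval_X] at this
    calc H1.index = Nat.card (H ⧸ H1) := Subgroup.index_eq_card _
      _ ≤ Nat.card (f.aroots K).toFinset := by
          refine Nat.card_le_card_of_injective (fun x => ⟨ζ ^ i x.out, hroot _⟩) fun x y e => ?_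
          rw [← x.out_eq, ← y.out_eq]
          refine Quotient.sound (QuotientGroup.leftRel_apply.mpr
            (Subgroup.mem_centralizer_singleton_iff.mpr ?_))
          have e' := congrArg Subtype.val e
          simp only at e'
          rw [IsOfFinOrder.pow_eq_pow_iff_modEq (orderOf_pos_iff.mp (hord ▸ (Fact.out : p.Prime).pos)),
            hord, ← hz, ← pow_eq_pow_iff_modEq, ← hi, ← hi] at e'
          calc (x.out⁻¹ * y.out) * z = x.out⁻¹ * (y.out * z * y.out⁻¹) * y.out := by group
            _ = x.out⁻¹ * (x.out * z * x.out⁻¹) * y.out := by rw [e']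
            _ = z * (x.out⁻¹ * y.out) := by group
      _ = (f.aroots K).toFinset.card := Nat.card_eq_finsetCard _
      _ ≤ Multiset.card (f.aroots K) := Multiset.toFinset_card_le _
      _ ≤ (f.map (algebraMap (ZMod q) K)).natDegree := card_roots' _
      _ = f.natDegree := natDegree_map _
  have hidxn : H1.index ≤ n := hidx.trans (by
    refine (natDegree_le_of_dvd (LinearMap.minpoly_dvd_charpoly (ρ z))
      (LinearMap.charpoly_monic _).ne_zero).trans ?_
    rw [LinearMap.charpoly_natDegree])
  have hVe : 2 ^ H1.index ≤ Nat.card V := by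
    rw [hcardV]
    exact (Nat.pow_le_pow_left hq2 _).trans (Nat.pow_le_pow_right (by omega) hidxn)
  -- the abelian case
  by_cases hab : ∀ a ∈ H1, ∀ b ∈ H1, a * b = b * a
  · refine ⟨H1, H1, 0, hab, ?_, ?_, hVe, Or.inl rfl⟩
    · rw [mul_zero, pow_zero, mul_one, sq]
    · rw [pow_zero]; exact Nat.card_pos
  -- simple submodules for the centralizer
  haveI : Finite (Submodule (ZMod q) V) := Finite.of_injective SetLike.coe SetLike.coe_injective
  let Inv1 : Submodule (ZMod q) V → Prop := fun U => ∀ h ∈ H1, ∀ v ∈ U, ρ h v ∈ U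
  let Simp : Submodule (ZMod q) V → Prop := fun U =>
    U ≠ ⊥ ∧ Inv1 U ∧ ∀ W, Inv1 W → W ≤ U → W = ⊥ ∨ W = U
  have hexS : ∀ U, U ≠ ⊥ → Inv1 U → ∃ W, Simp W ∧ W ≤ U := fun U h0 hU => by
    obtain ⟨W, hW, hmin⟩ := (Set.toFinite {W | W ≠ ⊥ ∧ Inv1 W ∧ W ≤ U}).exists_minimal
      ⟨U, h0, hU, le_rfl⟩
    exact ⟨W, ⟨hW.1, hW.2.1, fun X hX hXW => or_iff_not_imp_left.mpr fun hX0 =>
      le_antisymm hXW (hmin ⟨hX0, hX, hXW.trans hW.2.2⟩ hXW)⟩, hW.2.2⟩
  have hmapS : ∀ g U, Simp U → Simp (U.map (ρ g)) := by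
    intro g U hU
    have hinj : Function.Injective (ρ g) := fun a b e => by
      rw [← rho_cancel' ρ g a, e, rho_cancel']
    have hconjU : ∀ (g : H) (W : Submodule (ZMod q) V), Inv1 W → Inv1 (W.map (ρ g)) := by
      rintro g W hW h hh _ ⟨v, hv, rfl⟩
      refine ⟨ρ (g⁻¹ * h * g) v, hW _ (by simpa using hH1n.conj_mem h hh g⁻¹) v hv, ?_⟩
      rw [← Module.End.mul_apply, ← map_mul, ← Module.End.mul_apply, ← map_mul]
      exact congrArg (fun x : H => ρ x v) (by group)
    have hcancel : ∀ W : Submodule (ZMod q) V, (W.map (ρ g⁻¹)).map (ρ g) = W := fun W => by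
      rw [← Submodule.map_comp, ← Module.End.mul_eq_comp, ← map_mul, mul_inv_cancel, map_one,
        Module.End.one_eq_id, Submodule.map_id]
    refine ⟨fun e => hU.1 ?_, hconjU g U hU.2.1, fun W hW hWU => ?_⟩
    · exact Submodule.map_injective_of_injective hinj (e.trans (Submodule.map_bot _).symm)
    · have hle : W.map (ρ g⁻¹) ≤ U := by
        rintro _ ⟨w, hw, rfl⟩
        obtain ⟨v, hv, rfl⟩ := hWU hw
        rw [rho_cancel']; exact hv
      rcases hU.2.2 _ (hconjU g⁻¹ W hW) hle with e | e
      · left; rw [← hcancel W, e, Submodule.map_bot]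
      · right; rw [← hcancel W, e]
  haveI : Fintype (Submodule (ZMod q) V) := Fintype.ofFinite _
  let Sall : Finset (Submodule (ZMod q) V) := Finset.univ.filter Simp
  have hSmem : ∀ U, U ∈ Sall ↔ Simp U := fun U => by simp [Sall]
  have hSall : Sall.sup id = ⊤ := by
    refine (hirr _ fun g v hv => ?_).resolve_left fun e => ?_
    · have : Sall.sup id ≤ (Sall.sup id).comap (ρ g) := Finset.sup_le fun U hU => by
        rw [id_eq, ← Submodule.map_le_iff_le_comap]
        exact Finset.le_sup (f := id) (b := U.map (ρ g))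
          ((hSmem _).mpr (hmapS g U ((hSmem U).mp hU)))
      exact this hv
    · obtain ⟨W, hW, -⟩ := hexS ⊤ top_ne_bot fun h _ v _ => Submodule.mem_top
      exact hW.1 (le_bot_iff.mp (e ▸ Finset.le_sup (f := id) (b := W)
        ((hSmem W).mpr hW)))
  obtain ⟨s, ⟨hsS, hstop⟩, hsmin⟩ :=
    (Set.toFinite {s : Finset (Submodule (ZMod q) V) | (∀ U ∈ s, Simp U) ∧ s.sup id = ⊤}).exists_minimal
      ⟨Sall, fun U hU => (hSmem U).mp hU, hSall⟩
  have hinv_sup : ∀ t : Finset (Submodule (ZMod q) V), (∀ U ∈ t, Inv1 U) → Inv1 (t.sup id) := by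
    intro t ht h hh v hv
    have : t.sup id ≤ (t.sup id).comap (ρ h) := Finset.sup_le fun U hU w hw =>
      (Finset.le_sup (f := id) hU) (ht U hU h hh w hw)
    exact this hv
  have hsind : s.SupIndep id := by
    rw [Finset.supIndep_iff_disjoint_erase]
    intro U hU
    rw [disjoint_iff]
    refine ((hsS U hU).2.2 (U ⊓ (s.erase U).sup id) (fun h hh v hv =>
      ⟨(hsS U hU).2.1 h hh v hv.1, hinv_sup _ (fun W hW => (hsS W (Finset.mem_of_mem_erase hW)).2.1)
        h hh v hv.2⟩) inf_le_left).resolve_right fun e => ?_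
    have hle : U ≤ (s.erase U).sup id := inf_eq_left.mp e
    have hsup : (s.erase U).sup id = ⊤ := by
      rw [eq_top_iff, ← hstop]
      refine Finset.sup_le fun W hW => ?_
      by_cases hWU : W = U
      · exact hWU ▸ hle
      · exact Finset.le_sup (f := id) (Finset.mem_erase.mpr ⟨hWU, hW⟩)
    exact Finset.notMem_erase U s (hsmin ⟨fun W hW => hsS W (Finset.mem_of_mem_erase hW), hsup⟩
      (Finset.erase_subset _ _) hU)
  have hindep : iSupIndep fun U : s => (U : Submodule (ZMod q) V) := hsind.independent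
  have hiSup : (⨆ U : s, (U : Submodule (ZMod q) V)) = ⊤ := by
    rw [eq_top_iff, ← hstop]
    exact Finset.sup_le fun U hU => le_iSup (fun U : s => (U : Submodule (ZMod q) V)) ⟨U, hU⟩
  have hint' : DirectSum.IsInternal fun U : s => (U : Submodule (ZMod q) V) :=
    (DirectSum.isInternal_submodule_iff_iSupIndep_and_iSup_eq_top _).mpr ⟨hindep, hiSup⟩
  have hsum : ∑ U : s, Module.finrank (ZMod q) (U : Submodule (ZMod q) V) = n := by
    rw [hn, ← Module.finrank_directSum]
    exact (LinearEquiv.ofBijective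
      (DirectSum.coeLinearMap fun U : s => (U : Submodule (ZMod q) V)) hint').finrank_eq
  -- the data on one simple submodule
  have key : ∀ U : s, ∃ (T C N : Subgroup H1) (P : (ZMod q)[X]) (R d : ℕ),
      T ≤ C ∧ N.Normal ∧ (∀ x ∈ N, ∃ k : ℕ, ∀ v ∈ (U : Submodule (ZMod q) V), ((ρ x - 1) ^ k) v = 0) ∧
      (∀ t ∈ T, ∀ c ∈ C, ⁅t, c⁆ ∈ N) ∧ (C.index * T.index) ^ 3 ≤ 2 ^ (20 * (R - 1)) ∧
      P ≠ 0 ∧ P.natDegree ≤ d ∧ (∀ v ∈ (U : Submodule (ZMod q) V), aeval (ρ z) P v = 0) ∧
      2 ≤ R ∧ d * R = Module.finrank (ZMod q) (U : Submodule (ZMod q) V) ∧ p ≤ q ^ d := by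
    rintro ⟨U, hUs⟩
    obtain ⟨hU0, hUinv, hUmin⟩ := hsS U hUs
    haveI : Nontrivial U := Submodule.nontrivial_iff_ne_bot.mpr hU0
    let rH : H1 →* Module.End (ZMod q) U :=
      subRep' (ρ.comp H1.subtype) U fun h v hv => hUinv h h.2 v hv
    let zU : Module.End (ZMod q) U := rH ⟨z, Subgroup.mem_centralizer_singleton_iff.mpr rfl⟩
    let E : Subalgebra (ZMod q) (Module.End (ZMod q) U) := Algebra.adjoin (ZMod q) {zU}
    have hEH : ∀ (x : E) (h : H1), Commute (x : Module.End (ZMod q) U) (rH h) := by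
      intro x h
      have hle : E ≤ Subalgebra.centralizer (ZMod q) {rH h} := Algebra.adjoin_le (by
        rintro _ rfl
        rw [SetLike.mem_coe, Subalgebra.mem_centralizer_iff]
        rintro _ rfl
        show rH h * zU = zU * rH h
        rw [← map_mul, ← map_mul]
        exact congrArg rH (Subtype.ext (hcom h h.2)))
      exact ((Subalgebra.mem_centralizer_iff (ZMod q)).mp (hle x.2) _ rfl).symm
    have hinjE : ∀ x : E, x ≠ 0 → Function.Injective (x : Module.End (ZMod q) U) := by
      intro x hx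
      rw [← LinearMap.ker_eq_bot]
      set W := LinearMap.ker (x : Module.End (ZMod q) U) with hW
      have hWi : Inv1 (W.map U.subtype) := by
        rintro h hh _ ⟨w, hw, rfl⟩
        refine ⟨rH ⟨h, hh⟩ w, ?_, rfl⟩
        rw [SetLike.mem_coe, LinearMap.mem_ker, ← Module.End.mul_apply, (hEH x ⟨h, hh⟩).eq,
          Module.End.mul_apply, LinearMap.mem_ker.mp hw, map_zero]
      rcases hUmin _ hWi (Submodule.map_subtype_le U W) with e | e
      · exact Submodule.map_injective_of_injective U.injective_subtype (e.trans (Submodule.map_bot _).symm)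
      · refine absurd (Subtype.ext (LinearMap.ext fun w => ?_)) hx
        have : (w : V) ∈ W.map U.subtype := e.symm ▸ w.2
        obtain ⟨w', hw', e'⟩ := this
        rw [← Subtype.ext e']
        exact LinearMap.mem_ker.mp hw'
    have hcomm : ∀ x y : E, x * y = y * x := fun x y => by
      haveI := Algebra.isMulCommutative_adjoin (ZMod q) (s := ({zU} : Set (Module.End (ZMod q) U)))
        (by rintro _ rfl _ rfl; rfl)
      exact mul_comm' x y
    letI iCR : CommRing E := { (inferInstance : Ring E) with mul_comm := hcomm }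
    haveI : Nontrivial E := ⟨⟨0, 1, fun h => by
      obtain ⟨v, hv⟩ := exists_ne (0 : U)
      exact hv (LinearMap.congr_fun (congrArg Subtype.val h) v).symm⟩⟩
    haveI : NoZeroDivisors E := ⟨fun {x y} hxy => or_iff_not_imp_left.mpr fun hx =>
      Subtype.ext (LinearMap.ext fun v => hinjE x hx (by
        rw [ZeroMemClass.coe_zero, LinearMap.zero_apply, map_zero]
        exact LinearMap.congr_fun (congrArg Subtype.val hxy) v))⟩
    haveI : IsDomain E := NoZeroDivisors.to_isDomain E
    haveI : Finite (Module.End (ZMod q) U) := Finite.of_injective _ DFunLike.coe_injective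
    haveI : Finite E := Subtype.finite
    letI : Field E := (Finite.isField_of_domain E).toField
    haveI : IsScalarTower (ZMod q) E U := ⟨fun a x v => rfl⟩
    haveI : Module.Finite E U := Module.Finite.of_finite
    haveI : Module.Finite (ZMod q) E := Module.Finite.of_finite
    let ψ : H1 →* Module.End E U :=
      { toFun := fun h =>
          { toFun := rH h
            map_add' := map_add (rH h)
            map_smul' := fun x v => (LinearMap.congr_fun (hEH x h).eq v).symm }
        map_one' := LinearMap.ext fun v => LinearMap.congr_fun (map_one rH) v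
        map_mul' := fun g h => LinearMap.ext fun v => LinearMap.congr_fun (map_mul rH g h) v }
    set R := Module.finrank E U with hR
    have hR2 : 2 ≤ R := by
      by_contra hlt
      have hR1 : R = 1 := by
        have : 0 < R := Module.finrank_pos
        omega
      obtain ⟨u, hu, hgen⟩ := finrank_eq_one_iff'.mp hR1
      refine hab fun a ha b hb => ?_
      have htriv : ∀ (a b : H1) (v : U), ψ ⁅a, b⁆ v = v := fun a b v => by
        have hcm : ∀ a b : H1, ψ (a * b) = ψ (b * a) := fun a b => LinearMap.ext fun w => by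
          obtain ⟨c, rfl⟩ := hgen w
          obtain ⟨ca, hca⟩ := hgen (ψ a u)
          obtain ⟨cb, hcb⟩ := hgen (ψ b u)
          simp only [map_mul, Module.End.mul_apply, map_smul, ← hca, ← hcb, smul_smul]
          ring_nf
        rw [show ⁅a, b⁆ = (a * b) * (b * a)⁻¹ by rw [commutatorElement_def]; group, map_mul, hcm,
          ← map_mul, mul_inv_cancel, map_one, Module.End.one_apply]
      let F : Submodule (ZMod q) V :=
        ⨅ (a : H1) (b : H1), Module.End.eigenspace (ρ (⁅a, b⁆ : H1)) 1
      have hF : ∀ v, v ∈ F ↔ ∀ a b : H1, ρ (⁅a, b⁆ : H1) v = v := fun v => by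
        simp [F, Submodule.mem_iInf]
      have hUF : U ≤ F := fun v hv => (hF v).mpr fun a b =>
        congrArg Subtype.val (htriv a b ⟨v, hv⟩)
      have hFinv : ∀ g, ∀ v ∈ F, ρ g v ∈ F := fun g v hv => (hF _).mpr fun a b => by
        have h1 := (hF v).mp hv ⟨g⁻¹ * a * g, by simpa using hH1n.conj_mem a a.2 g⁻¹⟩
          ⟨g⁻¹ * b * g, by simpa using hH1n.conj_mem b b.2 g⁻¹⟩
        rw [← Module.End.mul_apply, ← map_mul]
        conv_rhs => rw [← h1]
        rw [← Module.End.mul_apply, ← map_mul]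
        refine congrArg (fun x : H => ρ x v) ?_
        simp only [commutatorElement_def, Subgroup.coe_mul, Subgroup.coe_inv]
        group
      rcases hirr F hFinv with e | e
      · exact absurd (le_bot_iff.mp (e ▸ hUF)) hU0
      · have h1 : ((⁅(⟨a, ha⟩ : H1), (⟨b, hb⟩ : H1)⁆ : H1) : H) = 1 := hρ (LinearMap.ext fun v => by
          rw [map_one, Module.End.one_apply]
          exact (hF v).mp (e ▸ Submodule.mem_top) _ _)
        exact commutatorElement_eq_one_iff_mul_comm.mp h1
    obtain ⟨T, C, N, hTC, hN, hu, hc, hb⟩ := good_finite_field (q := q) inferInstance ψ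
    let zE : E := ⟨zU, Algebra.subset_adjoin rfl⟩
    refine ⟨T, C, N, minpoly (ZMod q) zE, R, Module.finrank (ZMod q) E, hTC, hN, fun x hx => ?_, hc,
      hb, minpoly.ne_zero (Algebra.IsIntegral.isIntegral _), minpoly.natDegree_le _, ?_, hR2,
      Module.finrank_mul_finrank _ _ _, ?_⟩
    · obtain ⟨k, hk⟩ := hu x hx
      refine ⟨k, fun v hv => ?_⟩
      have h1 : ∀ (k : ℕ) (w : U), (((ψ x - 1) ^ k) w : V) = ((ρ x - 1) ^ k) w := by
        intro k
        induction k with
        | zero => intro w; rfl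
        | succ k ihk => intro w; rw [pow_succ, Module.End.mul_apply, ihk, pow_succ, Module.End.mul_apply]; rfl
      rw [← h1 k ⟨v, hv⟩, hk]
      rfl
    · intro v hv
      have h0 : aeval zU (minpoly (ZMod q) zE) = 0 := by
        have h2 : (zU : Module.End (ZMod q) U) = E.val zE := rfl
        rw [h2, aeval_algHom_apply, minpoly.aeval, map_zero]
      rw [aeval_restrict (ρ z) U (fun v hv => hUinv z (Subgroup.mem_centralizer_singleton_iff.mpr rfl) v hv)
        _ ⟨v, hv⟩]
      show ((aeval zU (minpoly (ZMod q) zE)) ⟨v, hv⟩ : V) = 0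
      rw [h0]; rfl
    · have hzE1 : zE ≠ 1 := fun e => by
        obtain ⟨v, hv⟩ := exists_ne (0 : U)
        exact hv (Subtype.ext (hfix v (congrArg Subtype.val
          (LinearMap.congr_fun (congrArg Subtype.val e) v))))
      have hzEp : zE ^ p = 1 := Subtype.ext (by
        show zU ^ p = 1
        rw [← map_pow, ← map_one rH]
        exact congrArg rH (Subtype.ext (by simpa using (hz ▸ pow_orderOf_eq_one z : z ^ p = 1))))
      haveI : Fintype E := Fintype.ofFinite E
      calc p = orderOf zE := (orderOf_eq_prime hzEp hzE1).symm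
        _ ≤ Fintype.card E := orderOf_le_card_univ
        _ = q ^ Module.finrank (ZMod q) E := by
          rw [← Nat.card_eq_fintype_card, Module.natCard_eq_pow_finrank (K := ZMod q), Nat.card_zmod]
  choose T C N P R d hTC hNn hNu hcomm hbd hP0 hPd hPz hR2 hdR hpd using key
  let N0 : Subgroup H1 := ⨅ U, N U
  haveI hN0n : N0.Normal := Subgroup.normal_iInf_normal fun U => hNn U
  have hN0p : IsPGroup q N0 := by
    rintro ⟨x, hx⟩
    have hU : ∀ U : s, ∃ k : ℕ, ∀ v ∈ (U : Submodule (ZMod q) V), ((ρ x - 1) ^ k) v = 0 :=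
      fun U => hNu U x (Subgroup.mem_iInf.mp hx U)
    choose k hk using hU
    set m := ∑ U, k U with hm
    have hzero : (ρ x - 1) ^ m = 0 := by
      refine LinearMap.ker_eq_top.mp (eq_top_iff.mpr (hiSup.symm.le.trans (iSup_le fun U v hv => ?_)))
      rw [LinearMap.mem_ker, ← Nat.sub_add_cancel (show k U ≤ m from Finset.single_le_sum
        (fun i _ => Nat.zero_le (k i)) (Finset.mem_univ U)), pow_add, Module.End.mul_apply, hk U v hv, map_zero]
    refine ⟨m, Subtype.ext (Subtype.ext (hρ ?_))⟩
    haveI : CharP (Module.End (ZMod q) V) q := charP_of_injective_algebraMap' (ZMod q) q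
    show ρ ((x : H) ^ q ^ m) = ρ 1
    have h0 : (ρ x - 1) ^ q ^ m = 0 := pow_eq_zero_of_le (Nat.lt_pow_self (Fact.out : q.Prime).one_lt).le hzero
    rw [sub_pow_char_pow_of_commute _ _ (Commute.one_right _), one_pow, sub_eq_zero] at h0
    rw [map_pow, map_one, h0]
  have hN0 : N0 = ⊥ := by
    have hcore := CfsgLib.PSolvable.map_pCore_le (p := q) H1
    have h1 : Cfsg.pCore q H = ⊥ := by
      haveI : (Cfsg.pCore q H).Normal := Cfsg.pCore_normal q H
      exact pgroup_eq_bot_finite ρ hρ hirr _ (CfsgLib.Fitting.pCore_isPGroup q)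
    rw [h1, le_bot_iff, Subgroup.map_eq_bot_iff_of_injective _ H1.subtype_injective] at hcore
    exact le_bot_iff.mp (hcore ▸ CfsgLib.Fitting.le_pCore hN0n hN0p)
  refine ⟨(⨅ U, T U).map H1.subtype, (⨅ U, C U).map H1.subtype, ∑ U, R U, ?_, ?_, ?_, hVe, Or.inr ?_⟩
  · rintro _ ⟨t, ht, rfl⟩ _ ⟨c, hc, rfl⟩
    have : ⁅t, c⁆ ∈ N0 := Subgroup.mem_iInf.mpr fun U =>
      hcomm U t (Subgroup.mem_iInf.mp ht U) c (Subgroup.mem_iInf.mp hc U)
    rw [hN0, Subgroup.mem_bot] at this
    rw [← commutatorElement_eq_one_iff_mul_comm, ← map_commutatorElement, this, map_one]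
  · rw [Subgroup.index_map_subtype, Subgroup.index_map_subtype]
    have hCi := Subgroup.index_iInf_le C
    have hTi := Subgroup.index_iInf_le T
    calc ((⨅ U, C U).index * H1.index * ((⨅ U, T U).index * H1.index)) ^ 3
        ≤ ((∏ U, (C U).index) * H1.index * ((∏ U, (T U).index) * H1.index)) ^ 3 :=
          Nat.pow_le_pow_left (Nat.mul_le_mul (Nat.mul_le_mul_right _ hCi) (Nat.mul_le_mul_right _ hTi)) 3
      _ = (H1.index ^ 2) ^ 3 * ∏ U, ((C U).index * (T U).index) ^ 3 := by
          rw [Finset.prod_pow, Finset.prod_mul_distrib]; ring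
      _ ≤ (H1.index ^ 2) ^ 3 * ∏ U, 2 ^ (20 * R U) :=
          Nat.mul_le_mul_left _ (Finset.prod_le_prod (fun _ _ => Nat.zero_le _) fun U _ =>
            (hbd U).trans (Nat.pow_le_pow_right two_pos (Nat.mul_le_mul_left _ (Nat.sub_le _ _))))
      _ = _ := by rw [Finset.prod_pow_eq_pow_sum, ← Finset.mul_sum]
  · rw [hcardV, ← hsum, ← Finset.prod_pow_eq_pow_sum, ← Finset.prod_pow_eq_pow_sum]
    refine Finset.prod_le_prod (fun _ _ => Nat.zero_le _) fun U _ => ?_
    calc p ^ R U ≤ (q ^ d U) ^ R U := Nat.pow_le_pow_left (hpd U) _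
      _ = q ^ Module.finrank (ZMod q) (U : Submodule (ZMod q) V) := by rw [← pow_mul, hdR U]
  · rw [hcardV]
    refine (Nat.pow_le_pow_left hq2 _).trans (Nat.pow_le_pow_right (by omega) ?_)
    have hfd : f.natDegree ≤ ∑ U, d U := by
      have hd : f ∣ ∏ U, P U := minpoly.dvd _ _ (LinearMap.ker_eq_top.mp (eq_top_iff.mpr
        (hiSup.symm.le.trans (iSup_le fun U v hv => by
          rw [LinearMap.mem_ker, ← Finset.prod_erase_mul _ _ (Finset.mem_univ U), map_mul,
            Module.End.mul_apply, hPz U v hv, map_zero]))))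
      refine (natDegree_le_of_dvd hd (Finset.prod_ne_zero_iff.mpr fun U _ => hP0 U)).trans ?_
      exact (natDegree_prod_le _ _).trans (Finset.sum_le_sum fun U _ => hPd U)
    calc 2 * H1.index ≤ 2 * ∑ U, d U := Nat.mul_le_mul_left 2 (hidx.trans hfd)
      _ ≤ ∑ U, d U * R U := by
          rw [Finset.mul_sum]
          exact Finset.sum_le_sum fun U _ => by rw [mul_comm]; exact Nat.mul_le_mul_left _ (hR2 U)
      _ = n := by rw [← hsum]; exact Finset.sum_congr rfl fun U _ => hdR U

end CfsgLib.ClassLower
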