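import Mathlib
import Cfsg.Agent.Lib.KR.PermBound
import Cfsg.Agent.Lib.PSolvable.Core

/-!
A finite solvable linear group over an algebraically closed field of positive characteristic: up to a
normal subgroup of unipotent elements there are subgroups `T` and `C` commuting with each other with
`([H : C] [H : T]) ^ 3 ≤ 2 ^ (20 (n - 1))`.
-/

set_option autoImplicit false
set_option linter.style.haveILetI false

namespace CfsgLib.ClassLower

open scoped commutatorElement

universe u

variable {K : Type} [Field K]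

/-- The numerical inequality for the scalar case. -/
theorem scalar_arith {n N g : ℕ} (hn : 2 ≤ n) (hN : N ≤ n ^ 2) (hg : 2 ^ g ≤ N) :
    (N ^ g * N) ^ 3 ≤ 2 ^ (20 * (n - 1)) := by
  have hpos : 0 < N := lt_of_lt_of_le (Nat.two_pow_pos g) hg
  have h1 : (N ^ g * N) ^ 3 ≤ n ^ (6 * (g + 1)) := by
    calc (N ^ g * N) ^ 3 = N ^ (3 * (g + 1)) := by rw [← pow_succ, ← pow_mul, mul_comm]
      _ ≤ (n ^ 2) ^ (3 * (g + 1)) := Nat.pow_le_pow_left hN _
      _ = n ^ (6 * (g + 1)) := by rw [← pow_mul]; ring_nf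
  refine h1.trans ?_
  have hgL : g ≤ Nat.log 2 (n ^ 2) := Nat.le_log_of_pow_le one_lt_two (hg.trans hN)
  refine (Nat.pow_le_pow_right (by omega : 0 < n) (by omega : 6 * (g + 1) ≤
    6 * (Nat.log 2 (n ^ 2) + 1))).trans ?_
  by_cases hs : n ≤ 32
  · interval_cases n <;> decide +kernel
  · set L := Nat.log 2 (n - 1) with hL
    have hL1 : 2 ^ L ≤ n - 1 := Nat.pow_log_le_self 2 (by omega)
    have hL2 : n ≤ 2 ^ (L + 1) := by
      have : n - 1 < 2 ^ (L + 1) := Nat.lt_pow_succ_log_self one_lt_two _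
      omega
    have hL5 : 5 ≤ L := Nat.le_log_of_pow_le one_lt_two (by omega)
    have hlog : Nat.log 2 (n ^ 2) ≤ 2 * (L + 1) := by
      refine Nat.le_of_lt_succ (Nat.log_lt_of_lt_pow (by positivity) ?_)
      calc n ^ 2 ≤ (2 ^ (L + 1)) ^ 2 := Nat.pow_le_pow_left hL2 2
        _ = 2 ^ (2 * (L + 1)) := by rw [← pow_mul, mul_comm]
        _ < 2 ^ (2 * (L + 1)).succ := Nat.pow_lt_pow_succ one_lt_two
    refine (Nat.pow_le_pow_left hL2 _).trans ?_
    rw [← pow_mul]
    refine Nat.pow_le_pow_right two_pos ?_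
    have key : ∀ M, 5 ≤ M → (M + 1) * (6 * (2 * (M + 1) + 1)) ≤ 20 * 2 ^ M := by
      intro M hM
      induction M, hM using Nat.le_induction with
      | base => norm_num
      | succ M hM ih =>
        rw [pow_succ]
        nlinarith [Nat.mul_le_mul hM hM]
    calc (L + 1) * (6 * (Nat.log 2 (n ^ 2) + 1)) ≤ (L + 1) * (6 * (2 * (L + 1) + 1)) :=
          Nat.mul_le_mul_left _ (by omega)
      _ ≤ 20 * 2 ^ L := key L hL5
      _ ≤ 20 * (n - 1) := Nat.mul_le_mul_left _ hL1

variable {H : Type u} [Group H] {M : Type} [AddCommGroup M] [Module K M]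

/-- Unipotent elements of finite order in characteristic `q` have `q`-power order. -/
theorem pgroup_of_unipotent {q : ℕ} [Fact q.Prime] [CharP K q] [Nontrivial M]
    (ρ : H →* Module.End K M) (hρ : Function.Injective ρ) (N : Subgroup H)
    (hN : ∀ x ∈ N, IsNilpotent (ρ x - 1)) : IsPGroup q N := by
  haveI : CharP (Module.End K M) q := charP_of_injective_algebraMap' K q
  rintro ⟨x, hx⟩
  obtain ⟨k, hk⟩ := hN x hx
  refine ⟨k, Subtype.ext (hρ ?_)⟩
  show ρ (x ^ q ^ k) = ρ 1
  have h0 : (ρ x - 1) ^ q ^ k = 0 := pow_eq_zero_of_le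
    (Nat.lt_pow_self (Fact.out : q.Prime).one_lt).le hk
  rw [sub_pow_char_pow_of_commute _ _ (Commute.one_right _), one_pow, sub_eq_zero] at h0
  rw [map_pow, map_one, h0]

/-- A commuting family has a common eigenvector. -/
theorem exists_common_eigen [IsAlgClosed K] [FiniteDimensional K M] [Nontrivial M] {ι : Type*}
    (f : ι → Module.End K M) (hc : ∀ i j, Commute (f i) (f j)) :
    ∃ (χ : ι → K) (v : M), v ≠ 0 ∧ ∀ i, f i v = χ i • v := by
  obtain ⟨W, ⟨hW0, hWi⟩, hmin⟩ := (wellFounded_lt (α := Submodule K M)).has_min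
    {W | W ≠ ⊥ ∧ ∀ i, ∀ v ∈ W, f i v ∈ W} ⟨⊤, top_ne_bot, fun i v _ => Submodule.mem_top⟩
  haveI : Nontrivial W := Submodule.nontrivial_iff_ne_bot.mpr hW0
  have key : ∀ i, ∃ c : K, ∀ v ∈ W, f i v = c • v := by
    intro i
    obtain ⟨c, hc'⟩ := Module.End.exists_eigenvalue ((f i).restrict (hWi i))
    obtain ⟨v, hv⟩ := hc'.exists_hasEigenvector
    refine ⟨c, fun w hw => ?_⟩
    set W' := W ⊓ Module.End.eigenspace (f i) c with hW'
    have hinv : W' ≠ ⊥ ∧ ∀ j, ∀ v ∈ W', f j v ∈ W' := by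
      refine ⟨fun e => hv.2 ?_, fun j x hx => ⟨hWi j x hx.1, ?_⟩⟩
      · have : (v : M) ∈ W' := ⟨v.2, Module.End.mem_eigenspace_iff.mpr
          (congrArg Subtype.val hv.apply_eq_smul)⟩
        rw [e, Submodule.mem_bot] at this
        exact Subtype.ext this
      · refine Module.End.mem_eigenspace_iff.mpr ?_
        rw [← Module.End.mul_apply, (hc i j).eq, Module.End.mul_apply,
          Module.End.mem_eigenspace_iff.mp hx.2, map_smul]
    have hle : ¬ W' < W := hmin W' hinv
    have heq : W' = W := (inf_le_left.lt_or_eq).resolve_left hle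
    exact Module.End.mem_eigenspace_iff.mp (heq.symm ▸ hw : w ∈ W').2
  choose χ hχ using key
  obtain ⟨v, hv, hv0⟩ := Submodule.exists_mem_ne_zero_of_ne_bot hW0
  exact ⟨χ, v, hv0, fun i => hχ i v hv⟩

theorem rho_cancel (ρ : H →* Module.End K M) (g : H) (v : M) : ρ g⁻¹ (ρ g v) = v := by
  rw [← Module.End.mul_apply, ← map_mul, inv_mul_cancel, map_one, Module.End.one_apply]

/-- In a faithful irreducible group there is no normal `q`-subgroup. -/
theorem pgroup_eq_bot [Finite H] [IsAlgClosed K] [FiniteDimensional K M] [Nontrivial M] {q : ℕ}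
    [Fact q.Prime] [CharP K q] (ρ : H →* Module.End K M) (hρ : Function.Injective ρ)
    (hirr : ∀ W : Submodule K M, (∀ h, ∀ v ∈ W, ρ h v ∈ W) → W = ⊥ ∨ W = ⊤)
    (N : Subgroup H) [N.Normal] (hN : IsPGroup q N) : N = ⊥ := by
  by_contra hne
  haveI : Nontrivial N := (Subgroup.nontrivial_iff_ne_bot N).mpr hne
  haveI := hN.center_nontrivial
  set A : Subgroup H := (Subgroup.center N).map N.subtype with hA
  have hAne : A ≠ ⊥ := fun e => (Subgroup.nontrivial_iff_ne_bot _).mp inferInstance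
    ((Subgroup.map_eq_bot_iff_of_injective _ N.subtype_injective).mp e)
  haveI : A.Normal := inferInstance
  have hAab : ∀ a ∈ A, ∀ b ∈ A, a * b = b * a := by
    rintro _ ⟨a, ha, rfl⟩ _ ⟨b, _, rfl⟩
    exact congrArg N.subtype (Subgroup.mem_center_iff.mp ha b).symm
  obtain ⟨χ, v, hv, hvχ⟩ := exists_common_eigen (fun a : A => ρ a) fun a b => by
    show ρ a * ρ b = ρ b * ρ a
    rw [← map_mul, ← map_mul, hAab a a.2 b b.2]
  have hchi : ∀ a : A, χ a = 1 := fun a => by
    obtain ⟨b, -, hb⟩ := a.2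
    obtain ⟨k, hk⟩ := hN b
    have hpow : ∀ j : ℕ, ρ ((a : H) ^ j) v = χ a ^ j • v := fun j => by
      induction j with
      | zero => rw [pow_zero, map_one, pow_zero, one_smul, Module.End.one_apply]
      | succ j ih =>
        rw [pow_succ, map_mul, Module.End.mul_apply, hvχ, map_smul, ih, smul_smul, pow_succ,
          mul_comm]
    have h1 := hpow (q ^ k)
    rw [← hb, ← map_pow, hk, map_one, map_one, Module.End.one_apply] at h1
    have h2 : χ a ^ q ^ k = 1 := smul_left_injective K hv (h1.symm.trans (one_smul K v).symm)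
    have h3 : (χ a - 1) ^ q ^ k = 0 := by rw [sub_pow_char_pow, one_pow, h2, sub_self]
    exact sub_eq_zero.mp (pow_eq_zero_iff (pow_ne_zero _ (Fact.out : q.Prime).ne_zero) |>.mp h3)
  let W : Submodule K M := ⨅ a : A, Module.End.eigenspace (ρ a) 1
  have hmem : ∀ w, w ∈ W ↔ ∀ a : A, ρ a w = w := fun w => by
    simp [W, Submodule.mem_iInf]
  have hWinv : ∀ h, ∀ w ∈ W, ρ h w ∈ W := fun h w hw => (hmem _).mpr fun a => by
    have h1 := (hmem w).mp hw
      ⟨h⁻¹ * a * h, by simpa using (inferInstance : A.Normal).conj_mem a a.2 h⁻¹⟩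
    rw [← Module.End.mul_apply, ← map_mul]
    conv_rhs => rw [← h1]
    rw [← Module.End.mul_apply, ← map_mul]
    exact congrArg (fun x : H => ρ x w) (by group)
  rcases hirr W hWinv with e | e
  · exact hv (by
      have : v ∈ W := (hmem v).mpr fun a => by rw [hvχ, hchi, one_smul]
      rwa [e, Submodule.mem_bot] at this)
  · refine hAne (eq_bot_iff.mpr fun a ha => Subgroup.mem_bot.mpr (hρ (LinearMap.ext fun w => ?_)))
    have : w ∈ W := e ▸ Submodule.mem_top
    rw [map_one, Module.End.one_apply]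
    exact (hmem w).mp this ⟨a, ha⟩

/-- The property to be proved. -/
def Good (ρ : H →* Module.End K M) : Prop :=
  ∃ (T C N : Subgroup H), T ≤ C ∧ N.Normal ∧ (∀ x ∈ N, IsNilpotent (ρ x - 1)) ∧
    (∀ t ∈ T, ∀ c ∈ C, ⁅t, c⁆ ∈ N) ∧
    (C.index * T.index) ^ 3 ≤ 2 ^ (20 * (Module.finrank K M - 1))

/-- The scalar case. -/
theorem good_scalar [Finite H] [Group.IsSolvable H] [FiniteDimensional K M] [Nontrivial M]
    (ρ : H →* Module.End K M) (hρ : Function.Injective ρ)
    (hscal : ∀ A : Subgroup H, A.Normal → (∀ a ∈ A, ∀ b ∈ A, a * b = b * a) →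
      ∀ a ∈ A, ∃ c : K, ρ a = c • 1) :
    ∃ T : Subgroup H, (∀ t ∈ T, ∀ h : H, t * h = h * t) ∧
      T.index ^ 3 ≤ 2 ^ (20 * (Module.finrank K M - 1)) := by
  classical
  set n := Module.finrank K M with hndef
  set Z := Subgroup.center H with hZdef
  have hZc : ∀ t ∈ Z, ∀ h : H, t * h = h * t := fun t ht h => (Subgroup.mem_center_iff.mp ht h).symm
  have hsc : ∀ {a : H} {c : K}, ρ a = c • 1 → a ∈ Z := fun {a c} hc =>
    Subgroup.mem_center_iff.mpr fun g => hρ (by
      rw [map_mul, map_mul, hc, mul_smul_comm, mul_one, smul_mul_assoc, one_mul])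
  have hZs : ∀ t ∈ Z, ∃ c : K, ρ t = c • 1 :=
    hscal Z inferInstance fun a ha b _ => hZc a ha b
  have hpos : 1 ≤ n := Module.finrank_pos
  rcases eq_or_lt_of_le hpos with hn1 | hn2
  · refine ⟨Z, hZc, ?_⟩
    have htop : Z = ⊤ := eq_top_iff.mpr fun a _ => by
      obtain ⟨v, hv, hgen⟩ := finrank_eq_one_iff'.mp (hn1.symm : Module.finrank K M = 1)
      obtain ⟨c, hc⟩ := hgen (ρ a v)
      refine hsc (c := c) (LinearMap.ext fun w => ?_)
      obtain ⟨d, rfl⟩ := hgen w
      rw [map_smul, ← hc, LinearMap.smul_apply, Module.End.one_apply, smul_comm]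
    rw [htop, Subgroup.index_top, one_pow]
    exact Nat.one_le_two_pow
  -- the maximal normal subgroup of class two over the centre
  obtain ⟨F, ⟨hFn, hZF, hFF⟩, hFmax⟩ :=
    (Set.toFinite {F : Subgroup H | F.Normal ∧ Z ≤ F ∧ ⁅F, F⁆ ≤ Z}).exists_maximal
      ⟨Z, inferInstance, le_rfl, (Subgroup.commutator_le).mpr fun a ha b _ => by
        rw [commutatorElement_eq_one_iff_mul_comm.mpr (hZc a ha b)]; exact Z.one_mem⟩
  haveI := hFn
  set Cf := Subgroup.centralizer (F : Set H) with hCf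
  have hcap : F ⊓ Cf ≤ Z := fun a ha => by
    obtain ⟨c, hc⟩ := hscal (F ⊓ Cf) inferInstance (fun x hx y hy =>
      (Subgroup.mem_centralizer_iff.mp hx.2 y hy.1).symm) a ha
    exact hsc hc
  have hCfZ : Cf ≤ Z := by
    by_contra hnot
    have hne : Cf.map (QuotientGroup.mk' Z) ≠ ⊥ := fun e => hnot (by
      rwa [Subgroup.map_eq_bot_iff, QuotientGroup.ker_mk'] at e)
    haveI : Cf.Normal := inferInstance
    haveI hCn : (Cf.map (QuotientGroup.mk' Z)).Normal :=
      (inferInstance : Cf.Normal).map _ (QuotientGroup.mk'_surjective Z)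
    obtain ⟨W, ⟨hWn, hWne, hWle⟩, hWmin⟩ :=
      (Set.toFinite {W : Subgroup (H ⧸ Z) | W.Normal ∧ W ≠ ⊥ ∧ W ≤ Cf.map (QuotientGroup.mk' Z)}
        ).exists_minimal ⟨_, hCn, hne, le_rfl⟩
    haveI := hWn
    have hWab : ⁅W, W⁆ = ⊥ := by
      by_contra h
      have hlt := Group.IsSolvable.commutator_lt_of_ne_bot hWne
      exact hlt.not_ge (hWmin ⟨inferInstance, h, hlt.le.trans hWle⟩ hlt.le)
    set Y : Subgroup H := W.comap (QuotientGroup.mk' Z) ⊓ Cf with hY
    have hYY : ∀ a ∈ Y, ∀ b ∈ Y, ⁅a, b⁆ ∈ Z := fun a ha b hb => by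
      have : ⁅QuotientGroup.mk' Z a, QuotientGroup.mk' Z b⁆ ∈ ⁅W, W⁆ :=
        Subgroup.commutator_mem_commutator ha.1 hb.1
      rw [hWab, Subgroup.mem_bot, ← map_commutatorElement] at this
      exact (QuotientGroup.eq_one_iff _).mp this
    have hFY : ∀ a ∈ F, ∀ b ∈ Y, ⁅a, b⁆ = 1 := fun a ha b hb =>
      commutatorElement_eq_one_iff_mul_comm.mpr (Subgroup.mem_centralizer_iff.mp hb.2 a ha)
    haveI : Y.Normal := inferInstance
    have hE : (F ⊔ Y).Normal ∧ Z ≤ F ⊔ Y ∧ ⁅F ⊔ Y, F ⊔ Y⁆ ≤ Z := by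
      refine ⟨inferInstance, hZF.trans le_sup_left, Subgroup.commutator_le.mpr fun a ha b hb => ?_⟩
      obtain ⟨a₁, ha₁, a₂, ha₂, rfl⟩ := (Subgroup.mem_sup_of_normal_right).mp ha
      obtain ⟨b₁, hb₁, b₂, hb₂, rfl⟩ := (Subgroup.mem_sup_of_normal_right).mp hb
      rw [← QuotientGroup.eq_one_iff]
      show QuotientGroup.mk' Z ⁅a₁ * a₂, b₁ * b₂⁆ = 1
      have e1 : Commute (QuotientGroup.mk' Z a₁) (QuotientGroup.mk' Z b₁) :=
        commutatorElement_eq_one_iff_mul_comm.mp (by
          rw [← map_commutatorElement]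
          exact (QuotientGroup.eq_one_iff _).mpr (hFF (Subgroup.commutator_mem_commutator ha₁ hb₁)))
      have e2 : Commute (QuotientGroup.mk' Z a₂) (QuotientGroup.mk' Z b₂) :=
        commutatorElement_eq_one_iff_mul_comm.mp (by
          rw [← map_commutatorElement]
          exact (QuotientGroup.eq_one_iff _).mpr (hYY _ ha₂ _ hb₂))
      have e3 : Commute (QuotientGroup.mk' Z a₁) (QuotientGroup.mk' Z b₂) :=
        (commutatorElement_eq_one_iff_commute.mp (hFY _ ha₁ _ hb₂)).map _
      have e4 : Commute (QuotientGroup.mk' Z b₁) (QuotientGroup.mk' Z a₂) :=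
        (commutatorElement_eq_one_iff_commute.mp (hFY _ hb₁ _ ha₂)).map _
      rw [map_commutatorElement, map_mul, map_mul, commutatorElement_eq_one_iff_commute]
      exact (e1.mul_right e3).mul_left (e4.symm.mul_right e2)
    have hsub : F ⊔ Y ≤ F := hFmax hE le_sup_left
    refine hWne (eq_bot_iff.mpr fun w hw => ?_)
    obtain ⟨y, hy, rfl⟩ := hWle hw
    exact Subgroup.mem_bot.mpr ((QuotientGroup.eq_one_iff y).mpr
      (hcap ⟨hsub (Subgroup.mem_sup_right ⟨hw, hy⟩), hy⟩))
  refine ⟨Z, hZc, ?_⟩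
  -- the quotient F / Z
  set ZF : Subgroup F := Z.subgroupOf F with hZFdef
  haveI : ZF.Normal := Subgroup.normal_subgroupOf
  have hcomm : ∀ a b : F ⧸ ZF, a * b = b * a := by
    rintro ⟨a⟩ ⟨b⟩
    show QuotientGroup.mk' ZF a * QuotientGroup.mk' ZF b = QuotientGroup.mk' ZF b * QuotientGroup.mk' ZF a
    refine commutatorElement_eq_one_iff_mul_comm.mp ?_
    rw [← map_commutatorElement]
    exact (QuotientGroup.eq_one_iff _).mpr (Subgroup.mem_subgroupOf.mpr
      (hFF (Subgroup.commutator_mem_commutator a.2 b.2)))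
  letI : CommGroup (F ⧸ ZF) := { (inferInstance : Group (F ⧸ ZF)) with mul_comm := hcomm }
  haveI : Fintype (F ⧸ ZF) := Fintype.ofFinite _
  set N := Nat.card (F ⧸ ZF) with hN
  let r : F ⧸ ZF → F := fun c => c.out
  have hr : ∀ c, (r c : F ⧸ ZF) = c := fun c => QuotientGroup.out_eq' c
  -- linear independence of representatives
  have hNn : N ≤ n ^ 2 := by
    have hlam : ∀ (x : F) (c : F ⧸ ZF), ∃ l : K,
        ρ x * ρ (r c : H) = l • (ρ (r c : H) * ρ x) := fun x c => by
      obtain ⟨l, hl⟩ := hZs _ (hFF (Subgroup.commutator_mem_commutator x.2 (r c).2))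
      refine ⟨l, ?_⟩
      rw [← map_mul, ← map_mul, show (x : H) * (r c : H) = ⁅(x : H), (r c : H)⁆ * ((r c : H) * x) by
        rw [commutatorElement_def]; group, map_mul, hl, smul_mul_assoc, one_mul]
    choose lam hlam using hlam
    have hne : ∀ h : H, ρ h ≠ 0 := fun h e => by
      have := congrArg (fun f => ρ h⁻¹ * f) e
      simp only [← map_mul, inv_mul_cancel, map_one, mul_zero] at this
      exact one_ne_zero this
    have hlam1 : ∀ c, lam 1 c = 1 := fun c => by
      have := hlam 1 c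
      rw [OneMemClass.coe_one, map_one, one_mul, mul_one] at this
      exact smul_left_injective K (hne (r c : H)) (this.symm.trans (one_smul K _).symm)
    have hlamm : ∀ x y c, lam (x * y) c = lam x c * lam y c := fun x y c => by
      refine smul_left_injective K (hne ((r c : H) * ((x : H) * y))) ?_
      show lam (x * y) c • _ = (lam x c * lam y c) • _
      rw [map_mul ρ (r c : H), ← Subgroup.coe_mul, ← hlam (x * y) c, Subgroup.coe_mul, map_mul,
        mul_assoc, hlam y c, mul_smul_comm, ← mul_assoc, hlam x c, smul_mul_assoc, smul_smul,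
        mul_comm, mul_assoc]
    let L : F ⧸ ZF → (F →* K) := fun c =>
      { toFun := fun x => lam x c, map_one' := hlam1 c, map_mul' := fun x y => hlamm x y c }
    have hLinj : Function.Injective L := fun c d e => by
      have key : ∀ x : F, Commute ((r c : H) * (r d : H)⁻¹) x := fun x => hρ (by
        have h1 := hlam x c
        have h2 := hlam x d
        have h3 : lam x c = lam x d := DFunLike.congr_fun e x
        have hd : ρ (r d : H) * ρ (r d : H)⁻¹ = 1 := by rw [← map_mul, mul_inv_cancel, map_one]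
        have hd' : ρ (r d : H)⁻¹ * ρ (r d : H) = 1 := by rw [← map_mul, inv_mul_cancel, map_one]
        have h4 : ρ x * ρ (r d : H)⁻¹ = (lam x d)⁻¹ • (ρ (r d : H)⁻¹ * ρ x) := by
          have hl0 : lam x d ≠ 0 := fun h0 => hne ((x : H) * r d) (by
            rw [map_mul, h2, h0, zero_smul])
          rw [eq_inv_smul_iff₀ hl0]
          calc lam x d • (ρ (x : H) * ρ (r d : H)⁻¹)
              = ρ (r d : H)⁻¹ * (lam x d • (ρ (r d : H) * ρ x)) * ρ (r d : H)⁻¹ := by
                rw [mul_smul_comm, ← mul_assoc (ρ (r d : H)⁻¹), hd', one_mul, smul_mul_assoc]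
            _ = _ := by rw [← h2, mul_assoc, mul_assoc, hd, mul_one]
        have hl0 : lam x c ≠ 0 := fun h0 => hne ((x : H) * r c) (by
            rw [map_mul, h1, h0, zero_smul])
        simp only [map_mul]
        symm
        rw [← mul_assoc, h1, smul_mul_assoc, mul_assoc, h4, mul_smul_comm, smul_smul, h3,
          mul_inv_cancel₀ (h3 ▸ hl0), one_smul, mul_assoc])
      have hmem : r c * (r d)⁻¹ ∈ ZF := Subgroup.mem_subgroupOf.mpr (hcap ⟨(r c * (r d)⁻¹).2,
        Subgroup.mem_centralizer_iff.mpr fun x hx => (key ⟨x, hx⟩).eq.symm⟩)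
      have := (QuotientGroup.eq_one_iff _).mpr hmem
      rwa [QuotientGroup.mk_mul, QuotientGroup.mk_inv, hr, hr, mul_inv_eq_one] at this
    have hli : LinearIndependent K fun c => ρ (r c : H) := by
      rw [Fintype.linearIndependent_iff]
      intro w hw c₀
      by_contra hne0
      obtain ⟨φ, hφ⟩ : ∃ φ : Module.Dual K (Module.End K M), φ (w c₀ • ρ (r c₀ : H)) ≠ 0 := by
        by_contra hall
        push Not at hall
        exact smul_ne_zero hne0 (hne (r c₀ : H))
          ((Module.forall_dual_apply_eq_zero_iff K _).mp hall)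
      refine hφ ?_
      rw [map_smul, smul_eq_mul]
      refine Fintype.linearIndependent_iff.mp ((linearIndependent_monoidHom F K).comp L hLinj)
        (fun c => w c * φ (ρ (r c : H))) (funext fun x => ?_) c₀
      have hx' : ρ (x : H) * (∑ c, w c • ρ (r c : H)) * ρ (x : H)⁻¹ = 0 := by
        rw [hw, mul_zero, zero_mul]
      rw [Finset.mul_sum, Finset.sum_mul] at hx'
      have hx2 := congrArg φ hx'
      rw [map_sum, map_zero] at hx2
      rw [Pi.zero_apply, ← hx2, Finset.sum_apply]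
      refine Finset.sum_congr rfl fun c _ => ?_
      show w c * φ (ρ (r c : H)) * lam x c = _
      rw [mul_smul_comm, hlam, smul_smul, smul_mul_assoc, mul_assoc (ρ (r c : H)), ← map_mul ρ,
        mul_inv_cancel, map_one, mul_one, map_smul, smul_eq_mul]
      ring
    have := hli.fintype_card_le_finrank
    rw [Module.finrank_linearMap, ← sq] at this
    rwa [hN, Nat.card_eq_fintype_card]
  -- the action on F / Z
  have hconj : ∀ (g : H) (z : F), z ∈ ZF → MulAut.conjNormal g z ∈ ZF := fun g z hz =>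
    Subgroup.mem_subgroupOf.mpr (by
      rw [MulAut.conjNormal_apply]; exact (inferInstance : Z.Normal).conj_mem _ hz g)
  let act0 : H → (F ⧸ ZF) →* (F ⧸ ZF) := fun g =>
    QuotientGroup.map ZF ZF (MulAut.conjNormal g : MulAut F).toMonoidHom fun z hz => hconj g z hz
  let act : H →* Monoid.End (F ⧸ ZF) :=
    { toFun := act0
      map_one' := MonoidHom.ext fun e => by
        obtain ⟨a, rfl⟩ := QuotientGroup.mk'_surjective ZF e
        exact congrArg (QuotientGroup.mk' ZF) (by rw [map_one]; rfl)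
      map_mul' := fun g h => MonoidHom.ext fun e => by
        obtain ⟨a, rfl⟩ := QuotientGroup.mk'_surjective ZF e
        exact congrArg (QuotientGroup.mk' ZF) (by rw [map_mul]; rfl) }
  obtain ⟨S, hS, -, hS2⟩ := CfsgLib.KR.exists_small_generators (F ⧸ ZF)
  let D : Subgroup H := act.toHomUnits.ker
  have hDidx : D.index ≤ N ^ S.card := by
    rw [Subgroup.index_eq_card, Nat.card_congr (QuotientGroup.quotientKerEquivRange act.toHomUnits).toEquiv]
    have : Nat.card (act.toHomUnits.range) ≤ Nat.card (S → F ⧸ ZF) := by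
      refine Nat.card_le_card_of_injective
        (fun (u : act.toHomUnits.range) (s : S) => (((u : (Monoid.End (F ⧸ ZF))ˣ) :
          Monoid.End (F ⧸ ZF)) : (F ⧸ ZF) →* (F ⧸ ZF)) (s : F ⧸ ZF)) fun u v e => ?_
      refine Subtype.ext (Units.ext ?_)
      exact MonoidHom.eq_of_eqOn_dense hS fun s hs => congrFun e ⟨s, hs⟩
    rwa [Nat.card_fun, Nat.card_eq_finsetCard] at this
  have hDmem : ∀ d ∈ D, ∀ f : F, ⁅d, (f : H)⁆ ∈ Z := fun d hd f => by
    have h1 : act d = 1 := congrArg Units.val (MonoidHom.mem_ker.mp hd)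
    have h : ((MulAut.conjNormal d f : F) : F ⧸ ZF) = (f : F ⧸ ZF) :=
      DFunLike.congr_fun h1 (f : F ⧸ ZF)
    have h'' := Subgroup.mem_subgroupOf.mp (QuotientGroup.eq.mp h.symm)
    rw [Subgroup.coe_mul, Subgroup.coe_inv, MulAut.conjNormal_apply] at h''
    have h3 := (inferInstance : Z.Normal).conj_mem _ h'' (f : H)
    rwa [show (f : H) * ((f : H)⁻¹ * (d * (f : H) * d⁻¹)) * (f : H)⁻¹ = ⁅d, (f : H)⁆ by
      rw [commutatorElement_def]; group] at h3
  have hZD : Z ≤ D := fun z hz => by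
    refine MonoidHom.mem_ker.mpr (Units.ext (MonoidHom.ext fun e => ?_))
    obtain ⟨a, rfl⟩ := QuotientGroup.mk'_surjective ZF e
    show QuotientGroup.mk' ZF (MulAut.conjNormal z a) = QuotientGroup.mk' ZF a
    refine congrArg _ (Subtype.ext ?_)
    rw [MulAut.conjNormal_apply, hZc z hz, mul_inv_cancel_right]
  have hrel : Z.relIndex D ≤ N := by
    have hsel : ∀ d : D, ∀ f : F, ∃ l : K, ρ ⁅(d : H), (f : H)⁆ = l • 1 := fun d f =>
      hZs _ (hDmem d d.2 f)
    choose sc hsc' using hsel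
    have hinj1 : Function.Injective fun c : K => c • (1 : Module.End K M) :=
      smul_left_injective K one_ne_zero
    have hm : ∀ (d : D) (a b : F), sc d (a * b) = sc d a * sc d b := fun d a b => hinj1 (by
      show _ • (1 : Module.End K M) = _ • 1
      rw [← hsc', ← smul_smul, ← hsc' d b, ← one_mul (ρ ⁅(d : H), (b : H)⁆), ← smul_mul_assoc,
        ← hsc' d a, ← map_mul]
      refine congrArg ρ ?_
      calc ⁅(d : H), ((a * b : F) : H)⁆
          = ⁅(d : H), (a : H)⁆ * ((a : H) * ⁅(d : H), (b : H)⁆ * (a : H)⁻¹) := by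
            rw [Subgroup.coe_mul]; simp only [commutatorElement_def]; group
        _ = _ := by rw [← hZc _ (hDmem d d.2 b) (a : H), mul_inv_cancel_right])
    have h1' : ∀ (d : D) (a : F), a ∈ ZF → sc d a = 1 := fun d a ha => hinj1 (by
      show _ • (1 : Module.End K M) = _ • 1
      have e1 : ⁅(d : H), (a : H)⁆ = 1 :=
        commutatorElement_eq_one_iff_mul_comm.mpr (hZc _ ha d).symm
      rw [← hsc', one_smul, e1, map_one])
    let ev : D → ((F ⧸ ZF) →* K) := fun d =>
      QuotientGroup.lift ZF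
        { toFun := sc d, map_one' := h1' d 1 ZF.one_mem, map_mul' := hm d }
        fun a ha => h1' d a ha
    have hfin : LinearIndependent K fun χ : (F ⧸ ZF) →* K => (χ : F ⧸ ZF → K) :=
      linearIndependent_monoidHom _ _
    haveI := hfin.finite
    have hcard : Nat.card ((F ⧸ ZF) →* K) ≤ N := by
      haveI : Fintype ((F ⧸ ZF) →* K) := Fintype.ofFinite _
      have := hfin.fintype_card_le_finrank
      rw [Module.finrank_pi] at this
      rwa [hN, Nat.card_eq_fintype_card, Nat.card_eq_fintype_card]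
    rw [Subgroup.relIndex, Subgroup.index_eq_card]
    refine le_trans ?_ hcard
    refine Nat.card_le_card_of_injective (fun x => ev x.out) fun x y e => ?_
    rw [← x.out_eq, ← y.out_eq]
    refine Quotient.sound (QuotientGroup.leftRel_apply.mpr (Subgroup.mem_subgroupOf.mpr (hCfZ ?_)))
    refine Subgroup.mem_centralizer_iff.mpr fun f hf => ?_
    have h2 : sc x.out ⟨f, hf⟩ = sc y.out ⟨f, hf⟩ := DFunLike.congr_fun e (QuotientGroup.mk (⟨f, hf⟩ : F))
    have h3 : ⁅(x.out : H), f⁆ = ⁅(y.out : H), f⁆ := hρ (by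
      rw [hsc' x.out ⟨f, hf⟩, hsc' y.out ⟨f, hf⟩, h2])
    have h4 : (x.out : H) * f * (x.out : H)⁻¹ = (y.out : H) * f * (y.out : H)⁻¹ := by
      simpa [commutatorElement_def] using h3
    rw [Subgroup.coe_mul, Subgroup.coe_inv]
    calc f * ((x.out : H)⁻¹ * (y.out : H))
        = (x.out : H)⁻¹ * ((x.out : H) * f * (x.out : H)⁻¹) * y.out := by group
      _ = (x.out : H)⁻¹ * ((y.out : H) * f * (y.out : H)⁻¹) * y.out := by rw [h4]
      _ = _ := by group
  calc Z.index ^ 3 = (Z.relIndex D * D.index) ^ 3 := by rw [Subgroup.relIndex_mul_index hZD]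
    _ ≤ (N * N ^ S.card) ^ 3 := Nat.pow_le_pow_left (Nat.mul_le_mul hrel hDidx) 3
    _ = (N ^ S.card * N) ^ 3 := by rw [mul_comm]
    _ ≤ _ := scalar_arith hn2 hNn hS2

end CfsgLib.ClassLower
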