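import Cfsg.Agent.Lib.ClassLower.Struct

/-!
Induction for the commuting pair in a solvable linear group.
-/

set_option autoImplicit false
set_option linter.style.haveILetI false

namespace CfsgLib.ClassLower

open scoped commutatorElement

universe u

variable {K : Type} [Field K]

/-- Good representations pull back along surjections. -/
theorem good_of_surjective {H Q : Type u} [Group H] [Group Q] {M : Type} [AddCommGroup M]
    [Module K M] (f : H →* Q) (hf : Function.Surjective f) (σ : Q →* Module.End K M)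
    (h : Good σ) : Good (σ.comp f) := by
  obtain ⟨T, C, N, hTC, hN, hu, hc, hb⟩ := h
  refine ⟨T.comap f, C.comap f, N.comap f, Subgroup.comap_mono hTC, hN.comap f, fun x hx => hu _ hx,
    fun t ht c hc' => ?_, ?_⟩
  · show f ⁅t, c⁆ ∈ N
    rw [map_commutatorElement]
    exact hc _ ht _ hc'
  · rwa [Subgroup.index_comap_of_surjective _ hf, Subgroup.index_comap_of_surjective _ hf]

/-- The restriction to an invariant subspace. -/
def subRep {H : Type u} [Group H] {M : Type} [AddCommGroup M] [Module K M]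
    (ρ : H →* Module.End K M) (W : Submodule K M) (hW : ∀ h, ∀ v ∈ W, ρ h v ∈ W) :
    H →* Module.End K W where
  toFun h := (ρ h).restrict (hW h)
  map_one' := by ext v; simp
  map_mul' g h := by ext v; simp

/-- The action on the quotient by an invariant subspace. -/
def quotRep {H : Type u} [Group H] {M : Type} [AddCommGroup M] [Module K M]
    (ρ : H →* Module.End K M) (W : Submodule K M) (hW : ∀ h, ∀ v ∈ W, ρ h v ∈ W) :
    H →* Module.End K (M ⧸ W) where
  toFun h := W.mapQ W (ρ h) (hW h)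
  map_one' := by ext v; simp
  map_mul' g h := by ext v; simp

/-- The structure theorem. -/
theorem good_all [IsAlgClosed K] (q : ℕ) [Fact q.Prime] [CharP K q] :
    ∀ (n : ℕ) (H : Type u) [Group H] [Finite H], Group.IsSolvable H →
    ∀ (M : Type) [AddCommGroup M] [Module K M] [FiniteDimensional K M],
      Module.finrank K M = n → 1 ≤ n → ∀ ρ : H →* Module.End K M, Good ρ := by
  intro n
  induction n using Nat.strong_induction_on with
  | _ n ih =>
  intro H _ _ hsolv M _ _ _ hn hn1 ρ
  classical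
  haveI := hsolv
  haveI : Nontrivial M := Module.nontrivial_of_finrank_pos (R := K) (by omega)
  by_cases hirr : ∀ W : Submodule K M, (∀ h, ∀ v ∈ W, ρ h v ∈ W) → W = ⊥ ∨ W = ⊤
  swap
  · -- reducible
    push Not at hirr
    obtain ⟨W, hW, hb, ht⟩ := hirr
    have ha : 1 ≤ Module.finrank K W := Submodule.one_le_finrank_iff.mpr hb
    have hlt : Module.finrank K W < n := hn ▸ Submodule.finrank_lt ht
    have hadd : Module.finrank K (M ⧸ W) + Module.finrank K W = n := by
      rw [Submodule.finrank_quotient_add_finrank, hn]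
    obtain ⟨T₁, C₁, N₁, hTC₁, hN₁, hu₁, hc₁, hb₁⟩ :=
      ih _ hlt H hsolv W rfl ha (subRep ρ W hW)
    obtain ⟨T₂, C₂, N₂, hTC₂, hN₂, hu₂, hc₂, hb₂⟩ :=
      ih _ (by omega) H hsolv (M ⧸ W) rfl (by omega) (quotRep ρ W hW)
    refine ⟨T₁ ⊓ T₂, C₁ ⊓ C₂, N₁ ⊓ N₂, inf_le_inf hTC₁ hTC₂, inferInstance, fun x hx => ?_,
      fun t ht c hc => ⟨hc₁ t ht.1 c hc.1, hc₂ t ht.2 c hc.2⟩, ?_⟩
    · obtain ⟨i, hi⟩ := hu₁ x hx.1
      obtain ⟨j, hj⟩ := hu₂ x hx.2
      set f := ρ x - 1 with hf
      have h1 : ∀ (k : ℕ) (w : W), (((subRep ρ W hW x - 1) ^ k) w : M) = (f ^ k) w := by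
        intro k
        induction k with
        | zero => intro w; rfl
        | succ k ihk => intro w; rw [pow_succ, Module.End.mul_apply, ihk, pow_succ, Module.End.mul_apply]; rfl
      have h2 : ∀ (k : ℕ) (v : M),
          ((quotRep ρ W hW x - 1) ^ k) (Submodule.Quotient.mk v) = Submodule.Quotient.mk ((f ^ k) v) := by
        intro k
        induction k with
        | zero => intro v; rfl
        | succ k ihk =>
          intro v
          rw [pow_succ, Module.End.mul_apply, pow_succ, Module.End.mul_apply, ← ihk]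
          rfl
      refine ⟨i + j, LinearMap.ext fun v => ?_⟩
      rw [pow_add, Module.End.mul_apply]
      have hv : (f ^ j) v ∈ W := by
        rw [← Submodule.Quotient.mk_eq_zero (p := W), ← h2, hj]; rfl
      rw [← h1 i ⟨_, hv⟩, hi]
      rfl
    · calc ((C₁ ⊓ C₂).index * (T₁ ⊓ T₂).index) ^ 3
          ≤ ((C₁.index * C₂.index) * (T₁.index * T₂.index)) ^ 3 :=
            Nat.pow_le_pow_left (Nat.mul_le_mul Subgroup.index_inf_le Subgroup.index_inf_le) 3
        _ = (C₁.index * T₁.index) ^ 3 * (C₂.index * T₂.index) ^ 3 := by ring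
        _ ≤ 2 ^ (20 * (Module.finrank K W - 1)) * 2 ^ (20 * (Module.finrank K (M ⧸ W) - 1)) :=
            Nat.mul_le_mul hb₁ hb₂
        _ ≤ 2 ^ (20 * (Module.finrank K M - 1)) := by
            rw [← pow_add]; exact Nat.pow_le_pow_right two_pos (by omega)
  -- irreducible; pass to the image
  let π := QuotientGroup.mk' ρ.ker
  let σ : H ⧸ ρ.ker →* Module.End K M := QuotientGroup.lift ρ.ker ρ le_rfl
  have hρσ : ρ = σ.comp π := rfl
  have hσ : Function.Injective σ := by
    refine (injective_iff_map_eq_one σ).mpr fun x => QuotientGroup.induction_on x fun h e => ?_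
    exact (QuotientGroup.eq_one_iff h).mpr e
  rw [hρσ]
  refine good_of_surjective π (QuotientGroup.mk'_surjective _) σ ?_
  have hirr' : ∀ W : Submodule K M, (∀ h, ∀ v ∈ W, σ h v ∈ W) → W = ⊥ ∨ W = ⊤ := fun W hW =>
    hirr W fun h v hv => hW (π h) v hv
  suffices hmain : ∀ (Q : Type u) [Group Q] [Finite Q], Group.IsSolvable Q →
      ∀ σ : Q →* Module.End K M, Function.Injective σ →
        (∀ W : Submodule K M, (∀ h, ∀ v ∈ W, σ h v ∈ W) → W = ⊥ ∨ W = ⊤) → Good σ from
    hmain _ inferInstance σ hσ hirr'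
  clear hρσ hirr hirr' hσ σ π ρ hsolv
  intro Q _ _ hQ σ hσ hirr'
  haveI := hQ
  by_cases hscal : ∀ A : Subgroup Q, A.Normal → (∀ a ∈ A, ∀ b ∈ A, a * b = b * a) →
      ∀ a ∈ A, ∃ c : K, σ a = c • 1
  · obtain ⟨T, hT, hTb⟩ := good_scalar σ hσ hscal
    refine ⟨T, ⊤, ⊥, le_top, inferInstance, fun x hx => ⟨1, ?_⟩, fun t ht c _ => ?_, ?_⟩
    · rw [Subgroup.mem_bot.mp hx, map_one, sub_self, pow_one]
    · exact Subgroup.mem_bot.mpr (commutatorElement_eq_one_iff_mul_comm.mpr (hT t ht c))
    · rwa [Subgroup.index_top, one_mul]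
  -- blocks
  push Not at hscal
  obtain ⟨A, hAn, hAab, a₀, ha₀, hns⟩ := hscal
  haveI := hAn
  have hAc : ∀ a b : A, Commute (σ a) (σ b) := fun a b => by
    show σ a * σ b = σ b * σ a
    rw [← map_mul, ← map_mul, hAab a a.2 b b.2]
  let W : (A → K) → Submodule K M := fun χ => ⨅ a : A, Module.End.eigenspace (σ a) (χ a)
  have hmem : ∀ χ v, v ∈ W χ ↔ ∀ a : A, σ a v = χ a • v := fun χ v => by
    simp [W, Submodule.mem_iInf]
  have hind : iSupIndep W := by
    refine (Module.End.independent_iInf_maxGenEigenspace_of_forall_mapsTo (fun a : A => σ a)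
      fun i j φ => Module.End.mapsTo_maxGenEigenspace_of_comm (hAc j i) φ).mono fun χ => ?_
    exact iInf_mono fun a => Module.End.eigenspace_le_maxGenEigenspace
  let twist : Q → (A → K) → (A → K) := fun g χ a =>
    χ ⟨g⁻¹ * a * g, by simpa using hAn.conj_mem a a.2 g⁻¹⟩
  have hmap : ∀ g χ v, v ∈ W χ → σ g v ∈ W (twist g χ) := fun g χ v hv => (hmem _ _).mpr fun a => by
    rw [← Module.End.mul_apply, ← map_mul,
      show (a : Q) * g = g * (g⁻¹ * a * g) by group, map_mul, Module.End.mul_apply,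
      (hmem χ v).mp hv ⟨g⁻¹ * a * g, by simpa using hAn.conj_mem a a.2 g⁻¹⟩, map_smul]
  have htw1 : ∀ χ, twist 1 χ = χ := fun χ => funext fun a => congrArg χ (Subtype.ext (by simp))
  have htwm : ∀ g h χ, twist (g * h) χ = twist g (twist h χ) := fun g h χ => funext fun a =>
    congrArg χ (Subtype.ext (show (g * h)⁻¹ * a * (g * h) = h⁻¹ * (g⁻¹ * a * g) * h by group))
  let X := {χ : A → K // W χ ≠ ⊥}
  haveI : Fintype X := hind.fintypeNeBotOfFiniteDimensional
  have htwX : ∀ g (χ : X), W (twist g χ) ≠ ⊥ := fun g χ e => by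
    obtain ⟨v, hv, hv0⟩ := Submodule.exists_mem_ne_zero_of_ne_bot χ.2
    have := hmap g χ v hv
    rw [e, Submodule.mem_bot] at this
    exact hv0 (by rw [← rho_cancel σ g v, this, map_zero])
  let τ : Q →* Equiv.Perm X :=
    MonoidHom.toHomPerm
      { toFun := fun g χ => ⟨twist g χ, htwX g χ⟩
        map_one' := funext fun χ => Subtype.ext (htw1 χ)
        map_mul' := fun g h => funext fun χ => Subtype.ext (htwm g h χ) }
  have hτ : ∀ g (χ : X), ((τ g χ : X) : A → K) = twist g χ := fun g χ => rfl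
  set S := ⨆ χ : X, W χ with hS
  have hStop : S = ⊤ := by
    refine (hirr' S fun g v hv => ?_).resolve_left fun e => ?_
    · have : S ≤ S.comap (σ g) := iSup_le fun χ w hw =>
        (le_iSup (fun χ : X => W χ) (τ g χ)) (hmap g χ w hw)
      exact this hv
    · obtain ⟨χ, v, hv, hvχ⟩ := exists_common_eigen (fun a : A => σ a) hAc
      have hvW : v ∈ W χ := (hmem χ v).mpr hvχ
      have hne : W χ ≠ ⊥ := fun e' => hv (by rwa [e', Submodule.mem_bot] at hvW)
      have : v ∈ S := le_iSup (fun χ : X => W χ) ⟨χ, hne⟩ hvW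
      rw [e, Submodule.mem_bot] at this
      exact hv this
  have hindX : iSupIndep fun χ : X => W χ := hind.comp Subtype.val_injective
  have hint : DirectSum.IsInternal fun χ : X => W χ :=
    (DirectSum.isInternal_submodule_iff_iSupIndep_and_iSup_eq_top _).mpr ⟨hindX, hStop⟩
  have hsum : ∑ χ : X, Module.finrank K (W χ) = n := by
    rw [← hn, ← Module.finrank_directSum]
    exact (LinearEquiv.ofBijective (DirectSum.coeLinearMap fun χ : X => W χ) hint).finrank_eq
  have hX2 : 2 ≤ Fintype.card X := by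
    by_contra hlt
    haveI : Subsingleton X := Fintype.card_le_one_iff_subsingleton.mp (by omega)
    obtain ⟨χ⟩ : Nonempty X := by
      by_contra he
      rw [not_nonempty_iff] at he
      rw [hS, iSup_of_empty] at hStop
      exact bot_ne_top hStop
    have : W χ = ⊤ := by
      rw [← hStop, hS]
      exact le_antisymm (le_iSup (fun χ : X => W χ) χ) (iSup_le fun χ' => by rw [Subsingleton.elim χ' χ])
    refine hns ((χ : A → K) ⟨a₀, ha₀⟩) (LinearMap.ext fun v => ?_)
    rw [LinearMap.smul_apply, Module.End.one_apply]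
    exact (hmem _ v).mp (this ▸ Submodule.mem_top) ⟨a₀, ha₀⟩
  have hone : ∀ χ : X, 1 ≤ Module.finrank K (W χ) := fun χ => Submodule.one_le_finrank_iff.mpr χ.2
  have hblt : ∀ χ : X, Module.finrank K (W χ) < n := fun χ => by
    rw [← hsum, ← Finset.add_sum_erase _ _ (Finset.mem_univ χ)]
    have hp := Finset.sum_le_sum (s := Finset.univ.erase χ) (fun f _ => hone f)
    rw [Finset.sum_const, smul_eq_mul, mul_one, Finset.card_erase_of_mem (Finset.mem_univ χ),
      Finset.card_univ] at hp
    omega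
  set K0 := τ.ker with hK0
  have hKW : ∀ (χ : X) (k : K0), ∀ v ∈ W χ, σ k v ∈ W χ := fun χ k v hv => by
    have h := hmap k χ v hv
    rwa [← hτ, (Equiv.congr_fun (MonoidHom.mem_ker.mp k.2) χ : τ (k : Q) χ = χ)] at h
  have hsub : ∀ χ : X, Good (subRep (σ.comp K0.subtype) (W χ) (hKW χ)) := fun χ =>
    ih _ (hblt χ) K0 inferInstance (W χ) rfl (hone χ) _
  choose T C N hTC hNn hNu hcomm hbd using hsub
  let N0 : Subgroup K0 := ⨅ χ, N χ
  haveI hN0n : N0.Normal := Subgroup.normal_iInf_normal fun χ => hNn χ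
  have hN0u : ∀ x ∈ N0, IsNilpotent ((σ.comp K0.subtype) x - 1) := fun x hx => by
    have hχ : ∀ χ : X, ∃ k, ∀ v ∈ W χ, (((σ.comp K0.subtype) x - 1 : Module.End K M) ^ k) v = 0 := fun χ => by
      obtain ⟨k, hk⟩ := hNu χ x (Subgroup.mem_iInf.mp hx χ)
      refine ⟨k, fun v hv => ?_⟩
      have h1 : ∀ (k : ℕ) (w : W χ), (((subRep (σ.comp K0.subtype) (W χ) (hKW χ) x - 1) ^ k) w : M)
          = (((σ.comp K0.subtype) x - 1 : Module.End K M) ^ k) w := by
        intro k
        induction k with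
        | zero => intro w; rfl
        | succ k ihk => intro w; rw [pow_succ, Module.End.mul_apply, ihk, pow_succ, Module.End.mul_apply]; rfl
      rw [← h1 k ⟨v, hv⟩, hk]
      rfl
    choose k hk using hχ
    refine ⟨∑ χ, k χ, LinearMap.ker_eq_top.mp (eq_top_iff.mpr (hStop.symm.le.trans (iSup_le fun χ v hv => ?_)))⟩
    rw [LinearMap.mem_ker, ← Nat.sub_add_cancel (Finset.single_le_sum (fun i _ => Nat.zero_le (k i))
      (Finset.mem_univ χ)), pow_add, Module.End.mul_apply, hk χ v hv, map_zero]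
  have hN0p : IsPGroup q N0 :=
    pgroup_of_unipotent (σ.comp K0.subtype) (hσ.comp K0.subtype_injective) N0 hN0u
  have hN0 : N0 = ⊥ := by
    have hcore := CfsgLib.PSolvable.map_pCore_le (p := q) K0
    have h1 : Cfsg.pCore q Q = ⊥ := by
      haveI : (Cfsg.pCore q Q).Normal := Cfsg.pCore_normal q Q
      exact pgroup_eq_bot σ hσ hirr' _ (CfsgLib.Fitting.pCore_isPGroup q)
    rw [h1, le_bot_iff, Subgroup.map_eq_bot_iff_of_injective _ K0.subtype_injective] at hcore
    exact le_bot_iff.mp (hcore ▸ CfsgLib.Fitting.le_pCore hN0n hN0p)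
  refine ⟨(⨅ χ, T χ).map K0.subtype, (⨅ χ, C χ).map K0.subtype, ⊥,
    Subgroup.map_mono (iInf_mono hTC), inferInstance, fun x hx => ⟨1, ?_⟩, ?_, ?_⟩
  · rw [Subgroup.mem_bot.mp hx, map_one, sub_self, pow_one]
  · rintro _ ⟨t, ht, rfl⟩ _ ⟨c, hc, rfl⟩
    have : ⁅t, c⁆ ∈ N0 := Subgroup.mem_iInf.mpr fun χ =>
      hcomm χ t (Subgroup.mem_iInf.mp ht χ) c (Subgroup.mem_iInf.mp hc χ)
    rw [hN0, Subgroup.mem_bot] at this
    rw [← map_commutatorElement, this, map_one]
    exact Subgroup.one_mem _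
  · rw [Subgroup.index_map_subtype, Subgroup.index_map_subtype]
    have hP : K0.index ≤ 3 ^ (Fintype.card X - 1) := by
      rw [Subgroup.index_eq_card, Nat.card_congr (QuotientGroup.quotientKerEquivRange τ).toEquiv,
        ← Nat.card_eq_fintype_card]
      exact CfsgLib.KR.card_le_three_pow (solvable_of_surjective τ.rangeRestrict_surjective)
        τ.range.subtype τ.range.subtype_injective
    have hCi := Subgroup.index_iInf_le C
    have hTi := Subgroup.index_iInf_le T
    have e2 : ∑ χ : X, 20 * (Module.finrank K (W χ) - 1) + 20 * Fintype.card X = 20 * n := by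
      rw [← hsum, Finset.mul_sum, ← Finset.card_univ, mul_comm 20 (Finset.univ : Finset X).card,
        ← smul_eq_mul, ← Finset.sum_const, ← Finset.sum_add_distrib]
      exact Finset.sum_congr rfl fun χ _ => by have := hone χ; omega
    calc ((⨅ χ, C χ).index * K0.index * ((⨅ χ, T χ).index * K0.index)) ^ 3
        ≤ ((∏ χ, (C χ).index) * 3 ^ (Fintype.card X - 1) *
            ((∏ χ, (T χ).index) * 3 ^ (Fintype.card X - 1))) ^ 3 :=
          Nat.pow_le_pow_left (Nat.mul_le_mul (Nat.mul_le_mul hCi hP) (Nat.mul_le_mul hTi hP)) 3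
      _ = (729 : ℕ) ^ (Fintype.card X - 1) * ∏ χ, ((C χ).index * (T χ).index) ^ 3 := by
          rw [Finset.prod_pow, Finset.prod_mul_distrib]
          generalize Fintype.card X - 1 = j
          rw [show (729 : ℕ) ^ j = (3 ^ j) ^ 6 by rw [← pow_mul, mul_comm, pow_mul]; norm_num]
          ring
      _ ≤ (2 ^ 20) ^ (Fintype.card X - 1) *
            ∏ χ : X, 2 ^ (20 * (Module.finrank K (W χ) - 1)) :=
          Nat.mul_le_mul (Nat.pow_le_pow_left (by norm_num) _)
            (Finset.prod_le_prod (fun _ _ => Nat.zero_le _) fun χ _ => hbd χ)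
      _ ≤ 2 ^ (20 * (Module.finrank K M - 1)) := by
          rw [Finset.prod_pow_eq_pow_sum, ← pow_mul, ← pow_add]
          refine Nat.pow_le_pow_right two_pos ?_
          omega

end CfsgLib.ClassLower
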